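import Mathlib.LinearAlgebra.Eigenspace.Charpoly
import Mathlib.Analysis.Normed.Ring.InfiniteSum
import Mathlib.Analysis.Complex.Polynomial.Basic
import Mathlib.Topology.Algebra.InfiniteSum.Real
import Mathlib.Analysis.Normed.Group.InfiniteSum

/-!
# Bound of the trace by eigenvalues and dimension
-/

set_option autoImplicit false
set_option linter.style.haveILetI false
set_option linter.unusedSectionVars false
set_option linter.unusedVariables false

universe u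

namespace K988.TrBound

open Module

theorem norm_multiset_sum_le (s : Multiset ℂ) (C : ℝ) (h : ∀ x ∈ s, ‖x‖ ≤ C) :
    ‖s.sum‖ ≤ s.card * C := by
  induction s using Multiset.induction with
  | empty => simp
  | cons a s ih =>
    rw [Multiset.sum_cons, Multiset.card_cons]
    have h1 := h a (Multiset.mem_cons_self a s)
    have h2 := ih fun x hx => h x (Multiset.mem_cons_of_mem hx)
    push_cast
    nlinarith [norm_add_le a s.sum]

theorem norm_trace_le {V : Type u} [AddCommGroup V] [Module ℂ V] [FiniteDimensional ℂ V]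
    (f : V →ₗ[ℂ] V) (C : ℝ) (hC : 0 ≤ C) (h : ∀ μ : ℂ, Module.End.HasEigenvalue f μ → ‖μ‖ ≤ C) :
    ‖LinearMap.trace ℂ V f‖ ≤ finrank ℂ V * C := by
  rw [Module.End.trace_eq_sum_roots_charpoly_of_splits (f := f) (IsAlgClosed.splits _)]
  refine (norm_multiset_sum_le _ C ?_).trans ?_
  · intro x hx
    exact h x ((Module.End.hasEigenvalue_iff_isRoot_charpoly f x).2 (Polynomial.isRoot_of_mem_roots hx))
  · refine mul_le_mul_of_nonneg_right ?_ hC
    exact_mod_cast (Polynomial.card_roots' _).trans (LinearMap.charpoly_natDegree f).le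

theorem summable_bound (N : ℕ) (a c : ℕ → ℝ) (b d : ℕ → ℕ) (ha : ∀ q, 0 ≤ a q)
    (hc : ∀ p, 0 ≤ c p) (hsum : Summable fun p : ℕ => c p * (d p : ℝ)) :
    Summable fun pq : ℕ × ℕ => (c pq.1 * (d pq.1 : ℝ)) *
      (if pq.2 ≤ N then a pq.2 * (b pq.2 : ℝ) else 0) := by
  refine Summable.mul_of_nonneg hsum (g := fun q : ℕ => if q ≤ N then a q * (b q : ℝ) else 0)
    ?_ ?_ ?_
  · refine summable_of_ne_finset_zero (s := Finset.range (N + 1)) ?_
    intro q hq
    rw [Finset.mem_range, not_lt] at hq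
    rw [if_neg (by omega)]
  · intro p; exact mul_nonneg (hc p) (Nat.cast_nonneg _)
  · intro q
    change (0 : ℝ) ≤ if q ≤ N then a q * (b q : ℝ) else 0
    split_ifs
    · exact mul_nonneg (ha q) (Nat.cast_nonneg _)
    · exact le_rfl

theorem norm_trace_le_bound
    (E : ℕ → ℕ → Type u) [∀ p q, AddCommGroup (E p q)] [∀ p q, Module ℂ (E p q)]
    (hf : ∀ p q, FiniteDimensional ℂ (E p q)) (Φ : ∀ p q, E p q →ₗ[ℂ] E p q)
    (N : ℕ) (a c : ℕ → ℝ) (b d : ℕ → ℕ) (ha : ∀ q, 0 ≤ a q) (hc : ∀ p, 0 ≤ c p)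
    (h1 : ∀ p q, N < q → Subsingleton (E p q))
    (h2 : ∀ p q (μ : ℂ), Module.End.HasEigenvalue (Φ p q) μ → ‖μ‖ ≤ a q * c p)
    (h3 : ∀ p q, Module.finrank ℂ (E p q) ≤ b q * d p) (pq : ℕ × ℕ) :
    ‖LinearMap.trace ℂ (E pq.1 pq.2) (Φ pq.1 pq.2)‖ ≤ (c pq.1 * (d pq.1 : ℝ)) *
      (if pq.2 ≤ N then a pq.2 * (b pq.2 : ℝ) else 0) := by
  obtain ⟨p, q⟩ := pq
  haveI := hf p q
  dsimp only
  split_ifs with hq
  · refine (norm_trace_le (Φ p q) (a q * c p) (mul_nonneg (ha q) (hc p)) (h2 p q)).trans ?_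
    have h4 : (finrank ℂ (E p q) : ℝ) ≤ b q * d p := by exact_mod_cast h3 p q
    have h5 := mul_le_mul_of_nonneg_right h4 (mul_nonneg (ha q) (hc p))
    refine h5.trans (le_of_eq ?_)
    ring
  · haveI := h1 p q (by omega)
    have : Φ p q = 0 := Subsingleton.elim _ _
    rw [this]; simp

theorem main14280
    (E : ℕ → ℕ → Type u) [∀ p q, AddCommGroup (E p q)] [∀ p q, Module ℂ (E p q)]
    (hf : ∀ p q, FiniteDimensional ℂ (E p q)) (Φ : ∀ p q, E p q →ₗ[ℂ] E p q)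
    (N : ℕ) (a c : ℕ → ℝ) (b d : ℕ → ℕ) (ha : ∀ q, 0 ≤ a q) (hc : ∀ p, 0 ≤ c p)
    (h1 : ∀ p q, N < q → Subsingleton (E p q))
    (h2 : ∀ p q (μ : ℂ), Module.End.HasEigenvalue (Φ p q) μ → ‖μ‖ ≤ a q * c p)
    (h3 : ∀ p q, Module.finrank ℂ (E p q) ≤ b q * d p)
    (hsum : Summable fun p : ℕ => c p * (d p : ℝ)) :
    Summable fun pq : ℕ × ℕ => ‖LinearMap.trace ℂ (E pq.1 pq.2) (Φ pq.1 pq.2)‖ :=
  Summable.of_nonneg_of_le (fun _ => norm_nonneg _)
    (norm_trace_le_bound E hf Φ N a c b d ha hc h1 h2 h3) (summable_bound N a c b d ha hc hsum)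

end K988.TrBound
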