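import Groth.Agent.SpSeq.K988.TrPage
import Mathlib.Algebra.Order.Antidiag.Prod
import Mathlib.Topology.Algebra.InfiniteSum.Constructions

/-!
# Traces on the abutment of a spectral sequence of `ℂ[X]`-modules
-/

set_option autoImplicit false
set_option linter.style.haveILetI false
set_option linter.unusedSectionVars false
set_option linter.unusedVariables false

universe u

open CategoryTheory CategoryTheory.Limits Module

namespace K988.TrAbut

open SpSeq K988.SubRef K988.SubQ K988.Abs K988.Tr K988.CxSES K988.TrBound K988.TrPage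

theorem tsum_antidiag (f : ℕ × ℕ → ℂ) (hf : Summable fun x => ‖f x‖) :
    (Summable fun n : ℕ => ‖∑ x ∈ Finset.antidiagonal n, f x‖) ∧
      ∑' n : ℕ, ∑ x ∈ Finset.antidiagonal n, f x = ∑' x, f x := by
  have h1 : Summable fun x : (Σ n : ℕ, Finset.antidiagonal n) =>
      ‖f (Finset.HasAntidiagonal.sigmaAntidiagonalEquivProd x)‖ := Finset.HasAntidiagonal.sigmaAntidiagonalEquivProd.summable_iff.2 hf
  have h2 := h1.sigma
  have h3 : Summable fun n : ℕ => ∑ x ∈ Finset.antidiagonal n, ‖f x‖ := by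
    refine h2.congr fun n => ?_
    rw [tsum_fintype]
    exact (Finset.sum_coe_sort (Finset.antidiagonal n) (fun x => ‖f x‖))
  constructor
  · exact Summable.of_nonneg_of_le (fun _ => norm_nonneg _) (fun n => norm_sum_le _ _) h3
  · have h4 : Summable fun x : (Σ n : ℕ, Finset.antidiagonal n) =>
        f (Finset.HasAntidiagonal.sigmaAntidiagonalEquivProd x) := h1.of_norm
    rw [← Finset.HasAntidiagonal.sigmaAntidiagonalEquivProd.tsum_eq, h4.tsum_sigma]
    refine tsum_congr fun n => ?_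
    rw [tsum_fintype]
    exact (Finset.sum_coe_sort (Finset.antidiagonal n) (fun x => f x)).symm

section Fil

variable {X : ModuleCat.{u} (Polynomial ℂ)} (F : ℤ → Subobject X) (hF : Antitone F)

lemma tr_sum (hg : ∀ p, Module.Finite ℂ (rs (grPiece F hF p))) (k : ℕ) : ∀ (p : ℤ), F (p + k) = ⊥ →
    Module.Finite ℂ (rs ((F p : Subobject X) : ModuleCat.{u} (Polynomial ℂ))) ∧
    tr ((F p : Subobject X) : ModuleCat.{u} (Polynomial ℂ)) =
      ∑ i ∈ Finset.range k, tr (grPiece F hF (p + i)) := by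
  induction k with
  | zero =>
    intro p hp
    simp only [Nat.cast_zero, add_zero] at hp
    have h0 := Serre.isZero_of_eq_bot (F p) hp
    exact ⟨finite_zero h0, by rw [tr_zero h0]; simp⟩
  | succ k ih =>
    intro p hp
    obtain ⟨h1, h2⟩ := ih (p + 1) (by rw [← hp]; congr 1; push_cast; ring)
    have h3 := Serre.shortExact_gr (⟨X, F, hF⟩ : FilObj (ModuleCat.{u} (Polynomial ℂ))) p
    have h4 := finite_ext h3 h1 (hg p)
    refine ⟨h4, ?_⟩
    refine (tr_add h3 h4).trans ?_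
    change tr ((F (p + 1) : Subobject X) : ModuleCat.{u} (Polynomial ℂ)) + tr (grPiece F hF p) = _
    rw [h2, Finset.sum_range_succ', add_comm]
    have e0 : p + ((0 : ℕ) : ℤ) = p := by simp
    rw [e0, add_comm]
    congr 1
    refine Finset.sum_congr rfl fun i _ => ?_
    congr 2
    push_cast; ring

end Fil

variable {N : ℕ} {a c : ℕ → ℝ} {b d : ℕ → ℕ}

lemma bd_add (E : E₂CohomologicalSpectralSequence (ModuleCat.{u} (Polynomial ℂ)))
    (ha : ∀ q, 0 ≤ a q) (hc : ∀ p, 0 ≤ c p) (hsum : Summable fun p : ℕ => c p * (d p : ℝ))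
    (h : Bd N a c b d fun pq => (E.page 2 le_rfl).X pq) (k : ℕ) :
    ∀ (r : ℤ) (hr : 2 ≤ r), r = 2 + k → (Bd N a c b d fun pq => (E.page r hr).X pq) ∧
      ∑' pq : ℤ × ℤ, sg pq * tr ((E.page r hr).X pq) =
        ∑' pq : ℤ × ℤ, sg pq * tr ((E.page 2 le_rfl).X pq) := by
  induction k with
  | zero =>
    intro r hr e
    obtain rfl : r = 2 := by simpa using e
    exact ⟨h, rfl⟩
  | succ k ih =>
    intro r hr e
    obtain ⟨s, rfl⟩ : ∃ s, r = s + 1 := ⟨r - 1, by omega⟩
    have hs : (2 : ℤ) ≤ s := by push_cast at e; omega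
    obtain ⟨h1, h2⟩ := ih s hs (by push_cast at e; omega)
    exact ⟨Bd.succ E h1, (tsum_succ E h1 ha hc hsum).trans h2⟩

lemma stationary (E : E₂CohomologicalSpectralSequence (ModuleCat.{u} (Polynomial ℂ)))
    (h : Bd N a c b d fun pq => (E.page 2 le_rfl).X pq) (pq : ℤ × ℤ) :
    StationaryAt E pq (N + 2) := by
  have hz : ∀ (r : ℤ) (hr : 2 ≤ r) (pq : ℤ × ℤ), pq.1 < 0 ∨ pq.2 < 0 ∨ N < pq.2 →
      IsZero ((E.page r hr).X pq) := by
    intro r hr pq hpq
    refine isZero_page_of_le E 2 le_rfl pq ?_ r hr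
    by_cases h1 : pq.1 < 0 ∨ pq.2 < 0
    · exact h.1 pq h1
    · push Not at h1
      have := h.2.2.1 pq.1.toNat pq.2.toNat (by omega)
      convert this using 2
      exact Prod.ext (by simp; omega) (by simp; omega)
  refine ⟨by omega, fun r hr hr' => ⟨?_, ?_⟩⟩
  · by_cases h1 : pq.2 < 0 ∨ N < pq.2
    · exact (hz r hr pq (Or.inr h1)).eq_of_tgt _ _
    · push Not at h1
      exact (hz r hr (pq - (r, 1 - r)) (Or.inr (Or.inr (by
        simp only [Prod.snd_sub]; omega)))).eq_of_src _ _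
  · by_cases h1 : pq.2 < 0 ∨ N < pq.2
    · exact (hz r hr pq (Or.inr h1)).eq_of_src _ _
    · push Not at h1
      exact (hz r hr (pq + (r, 1 - r)) (Or.inr (Or.inl (by
        simp only [Prod.snd_add]; omega)))).eq_of_tgt _ _

theorem main14283
    (E : E₂CohomologicalSpectralSequence (ModuleCat.{u} (Polynomial ℂ)))
    (H : ℤ → ModuleCat.{u} (Polynomial ℂ)) (abut : SpSeq.Abutment E H)
    (hfin : ∀ n, abut.IsFinite n)
    (N : ℕ) (a c : ℕ → ℝ) (b d : ℕ → ℕ) (ha : ∀ q, 0 ≤ a q) (hc : ∀ p, 0 ≤ c p)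
    (h : Bd N a c b d fun pq => (E.page 2 le_rfl).X pq)
    (hsum : Summable fun p : ℕ => c p * (d p : ℝ)) :
    Summable (fun n : ℕ => ‖tr (H n)‖) ∧
    ∑' n : ℕ, (-1 : ℂ) ^ n * tr (H n) =
      ∑' pq : ℕ × ℕ, (-1 : ℂ) ^ (pq.1 + pq.2) *
        tr ((E.page 2 le_rfl).X ((pq.1 : ℤ), (pq.2 : ℤ))) := by
  obtain ⟨h1, h2⟩ := bd_add E ha hc hsum h N ((N : ℤ) + 2) (by omega) (by omega)
  have hst := stationary E h
  have hg : ∀ n p : ℤ, Module.Finite ℂ (rs (grPiece (abut.fil n) (abut.anti n) p)) := by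
    intro n p
    exact finite_of_mono (grIso' abut (N + 2) n p (n - p) (by ring) (hst _)).hom (h1.2.1 _)
  have hgr0 : ∀ n p : ℤ, p < 0 ∨ n - p < 0 → IsZero (grPiece (abut.fil n) (abut.anti n) p) :=
    fun n p hp => isZero_grPiece' abut 2 le_rfl n p (n - p) (by ring) (h.1 _ hp)
  have key : ∀ n : ℕ, tr (H n) = ∑ x ∈ Finset.antidiagonal n,
      tr ((E.page ((N : ℤ) + 2) (by omega)).X ((x.1 : ℤ), (x.2 : ℤ))) := by
    intro n
    have hbot : abut.fil n (0 + ((n + 1 : ℕ) : ℤ)) = ⊥ :=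
      eq_bot_of_isZero (abut.fil n) (abut.anti n) _ (hfin n).2
        (fun i hi => hgr0 n i (Or.inr (by push_cast at hi; omega)))
    have htop : abut.fil n 0 = ⊤ := eq_top_of_isZero (abut.fil n) (abut.anti n) 0
      (Conv.isExhaustive_of_isCodiscrete _ (hfin n).1) (fun i hi => hgr0 n i (Or.inl hi))
    haveI : IsIso (abut.fil n 0).arrow := (Subobject.isIso_arrow_iff_eq_top _).2 htop
    rw [← tr_iso (asIso (abut.fil n 0).arrow),
      (tr_sum (abut.fil n) (abut.anti n) (hg n) (n + 1) 0 hbot).2,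
      Finset.Nat.sum_antidiagonal_eq_sum_range_succ_mk]
    refine Finset.sum_congr rfl fun j hj => ?_
    rw [Finset.mem_range] at hj
    have hst' := hst ((j : ℤ), ((n - j : ℕ) : ℤ))
    have e := tr_iso (grIso' abut (N + 2) n j ((n - j : ℕ) : ℤ) (by omega) hst')
    rw [← e, zero_add]
  have s1 := h1.summable_norm ha hc hsum
  obtain ⟨s2, e2⟩ := tsum_antidiag (fun x => (-1 : ℂ) ^ (x.1 + x.2) *
    tr ((E.page ((N : ℤ) + 2) (by omega)).X ((x.1 : ℤ), (x.2 : ℤ)))) (by
      refine s1.congr fun x => ?_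
      rw [norm_mul, norm_pow, norm_neg, norm_one, one_pow, one_mul])
  have e3 : ∀ n : ℕ, ∑ x ∈ Finset.antidiagonal n, (-1 : ℂ) ^ (x.1 + x.2) *
      tr ((E.page ((N : ℤ) + 2) (by omega)).X ((x.1 : ℤ), (x.2 : ℤ))) = (-1 : ℂ) ^ n * tr (H n) := by
    intro n
    rw [key, Finset.mul_sum]
    refine Finset.sum_congr rfl fun x hx => ?_
    rw [Finset.mem_antidiagonal.1 hx]
  constructor
  · refine s2.congr fun n => ?_
    rw [e3, norm_mul, norm_pow, norm_neg, norm_one, one_pow, one_mul]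
  · rw [tsum_quad h.1, ← h2, ← tsum_quad h1.1, ← e2]
    exact tsum_congr fun n => (e3 n).symm

end K988.TrAbut
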