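import Groth.Agent.SpSeq.K988.SubRef
import Mathlib.Algebra.Homology.Refinements

/-!
# The two short exact sequences attached to an object of a complex
-/

set_option autoImplicit false
set_option linter.style.haveILetI false
set_option linter.unusedSectionVars false
set_option linter.unusedVariables false

universe v u

open CategoryTheory CategoryTheory.Limits

namespace K988.CxSES

variable {C : Type u} [Category.{v} C] [Abelian C] {ι : Type*} {c : ComplexShape ι}
  (L : HomologicalComplex C c) (i j k : ι)

lemma iCycles_factorThruImage : L.iCycles j ≫ factorThruImage (L.d j k) = 0 := by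
  rw [← cancel_mono (image.ι (L.d j k)), Category.assoc, image.fac, L.iCycles_d, zero_comp]

lemma shortExact₁ (hk : c.next j = k) :
    (ShortComplex.mk _ _ (iCycles_factorThruImage L j k)).ShortExact where
  exact := by
    rw [ShortComplex.exact_iff_exact_up_to_refinements]
    intro T x hx
    change x ≫ factorThruImage (L.d j k) = 0 at hx
    change T ⟶ L.X j at x
    have h0 : x ≫ L.d j k = 0 := by
      have h1 := congrArg (fun t => t ≫ image.ι (L.d j k)) hx
      dsimp only at h1
      rwa [Category.assoc, image.fac, zero_comp] at h1
    exact ⟨T, 𝟙 _, inferInstance, L.liftCycles x k hk h0, by simp⟩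
  mono_f := by dsimp; infer_instance
  epi_g := by dsimp; infer_instance

lemma image_ι_d (hk : c.next j = k) : image.ι (L.d i j) ≫ L.d j k = 0 := by
  rw [← cancel_epi (factorThruImage (L.d i j)), image.fac_assoc, L.d_comp_d, comp_zero]

/-- The inclusion of the image of the incoming differential into the cycles. -/
noncomputable def imCyc (hk : c.next j = k) : image (L.d i j) ⟶ L.cycles j :=
  L.liftCycles (image.ι (L.d i j)) k hk (image_ι_d L i j k hk)

lemma imCyc_iCycles (hk : c.next j = k) : imCyc L i j k hk ≫ L.iCycles j = image.ι (L.d i j) := by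
  unfold imCyc; simp

lemma fac_imCyc (hk : c.next j = k) :
    factorThruImage (L.d i j) ≫ imCyc L i j k hk = L.toCycles i j := by
  rw [← cancel_mono (L.iCycles j), Category.assoc, imCyc_iCycles, image.fac, L.toCycles_i]

lemma imCyc_homologyπ (hk : c.next j = k) : imCyc L i j k hk ≫ L.homologyπ j = 0 := by
  rw [← cancel_epi (factorThruImage (L.d i j)), ← Category.assoc, fac_imCyc,
    L.toCycles_comp_homologyπ, comp_zero]

lemma shortExact₂ (hi : c.prev j = i) (hk : c.next j = k) :
    (ShortComplex.mk _ _ (imCyc_homologyπ L i j k hk)).ShortExact where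
  exact := by
    rw [ShortComplex.exact_iff_exact_up_to_refinements]
    intro T x hx
    change x ≫ L.homologyπ j = 0 at hx
    rw [L.comp_homologyπ_eq_zero_iff_up_to_refinements i j hi] at hx
    obtain ⟨T', π, hπ, y, e⟩ := hx
    refine ⟨T', π, hπ, y ≫ factorThruImage (L.d i j), ?_⟩
    change π ≫ x = (y ≫ factorThruImage (L.d i j)) ≫ imCyc L i j k hk
    rw [Category.assoc, fac_imCyc, e]
  mono_f := by
    haveI : Mono (imCyc L i j k hk ≫ L.iCycles j) := by rw [imCyc_iCycles]; infer_instance
    exact mono_of_mono (imCyc L i j k hk) (L.iCycles j)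
  epi_g := by dsimp; infer_instance

end K988.CxSES
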