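import Groth.Agent.SpSeq.K988.Tr
import Groth.Agent.SpSeq.K988.CxSES

/-!
# Traces on the pages of a spectral sequence of `ℂ[X]`-modules
-/

set_option autoImplicit false
set_option linter.style.haveILetI false
set_option linter.unusedSectionVars false
set_option linter.unusedVariables false

universe u

open CategoryTheory CategoryTheory.Limits Module

namespace K988.TrPage

open SpSeq K988.SubRef K988.SubQ K988.Abs K988.Tr K988.CxSES K988.TrBound

section Complex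

variable {ι : Type*} {c : ComplexShape ι} (L : HomologicalComplex (ModuleCat.{u} (Polynomial ℂ)) c)
  (i j k : ι)

lemma tr_formula (hi : c.prev j = i) (hk : c.next j = k) (h : Module.Finite ℂ (rs (L.X j))) :
    tr (L.X j) = tr (L.homology j) + tr (image (L.d i j)) + tr (image (L.d j k)) := by
  have h1 := tr_add (shortExact₁ L j k hk) h
  have hc : Module.Finite ℂ (rs (L.cycles j)) := finite_of_mono (L.iCycles j) h
  have h2 := tr_add (shortExact₂ L i j k hi hk) hc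
  dsimp at h1 h2
  rw [h1, h2]; ring

end Complex

variable (N : ℕ) (a c : ℕ → ℝ) (b d : ℕ → ℕ)

/-- The boundedness condition. -/
def Bd (V : ℤ × ℤ → ModuleCat.{u} (Polynomial ℂ)) : Prop :=
  (∀ pq : ℤ × ℤ, pq.1 < 0 ∨ pq.2 < 0 → IsZero (V pq)) ∧
  (∀ pq : ℤ × ℤ, Module.Finite ℂ (rs (V pq))) ∧
  (∀ p q : ℕ, N < q → IsZero (V ((p : ℤ), (q : ℤ)))) ∧
  (∀ (p q : ℕ) (μ : ℂ), Module.End.HasEigenvalue (Phi (V ((p : ℤ), (q : ℤ)))) μ → ‖μ‖ ≤ a q * c p) ∧
  (∀ p q : ℕ, finrank ℂ (rs (V ((p : ℤ), (q : ℤ)))) ≤ b q * d p)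

variable {N a c b d}

lemma Bd.of_mono {V V' : ℤ × ℤ → ModuleCat.{u} (Polynomial ℂ)} (h : Bd N a c b d V)
    (f : ∀ pq, V' pq ⟶ V pq) (hf : ∀ pq, Mono (f pq)) : Bd N a c b d V' := by
  obtain ⟨h1, h2, h3, h4, h5⟩ := h
  exact ⟨fun pq hpq => IsZero.of_mono (f pq) (h1 pq hpq), fun pq => finite_of_mono (f pq) (h2 pq),
    fun p q hq => IsZero.of_mono (f _) (h3 p q hq), fun p q μ hμ => h4 p q μ (eig_of_mono (f _) hμ),
    fun p q => (finrank_of_mono (f _) (h2 _)).trans (h5 p q)⟩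

lemma Bd.of_epi {V V' : ℤ × ℤ → ModuleCat.{u} (Polynomial ℂ)} (h : Bd N a c b d V)
    (f : ∀ pq, V pq ⟶ V' pq) (hf : ∀ pq, Epi (f pq)) : Bd N a c b d V' := by
  obtain ⟨h1, h2, h3, h4, h5⟩ := h
  exact ⟨fun pq hpq => IsZero.of_epi (f pq) (h1 pq hpq), fun pq => finite_of_epi (f pq) (h2 pq),
    fun p q hq => IsZero.of_epi (f _) (h3 p q hq),
    fun p q μ hμ => h4 p q μ (eig_of_epi (f _) (h2 _) hμ),
    fun p q => (finrank_of_epi (f _) (h2 _)).trans (h5 p q)⟩

lemma Bd.summable_norm {V : ℤ × ℤ → ModuleCat.{u} (Polynomial ℂ)} (h : Bd N a c b d V)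
    (ha : ∀ q, 0 ≤ a q) (hc : ∀ p, 0 ≤ c p) (hsum : Summable fun p : ℕ => c p * (d p : ℝ)) :
    Summable fun pq : ℕ × ℕ => ‖tr (V ((pq.1 : ℤ), (pq.2 : ℤ)))‖ :=
  main14280 (fun p q => rs (V ((p : ℤ), (q : ℤ)))) (fun p q => h.2.1 _) (fun p q => Phi _) N a c b d
    ha hc (fun p q hq => by
      have : Subsingleton (V ((p : ℤ), (q : ℤ))) := ModuleCat.subsingleton_of_isZero (h.2.2.1 p q hq)
      exact this) h.2.2.2.1 h.2.2.2.2 hsum

/-- the inclusion of the first quadrant -/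
def quad (pq : ℕ × ℕ) : ℤ × ℤ := ((pq.1 : ℤ), (pq.2 : ℤ))

lemma quad_injective : Function.Injective quad := by
  rintro ⟨p, q⟩ ⟨p', q'⟩ h
  simp only [quad, Prod.mk.injEq, Nat.cast_inj] at h
  exact Prod.ext h.1 h.2

lemma mem_range_quad (pq : ℤ × ℤ) (h : ¬ (pq.1 < 0 ∨ pq.2 < 0)) : pq ∈ Set.range quad := by
  push Not at h
  exact ⟨(pq.1.toNat, pq.2.toNat), Prod.ext (by simp [quad]; omega) (by simp [quad]; omega)⟩

/-- the sign -/
noncomputable def sg (pq : ℤ × ℤ) : ℂ := (-1 : ℂ) ^ (pq.1 + pq.2)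

lemma norm_sg (pq : ℤ × ℤ) : ‖sg pq‖ = 1 := by
  unfold sg; rw [norm_zpow, norm_neg, norm_one, one_zpow]

lemma sg_quad (pq : ℕ × ℕ) : sg (quad pq) = (-1 : ℂ) ^ (pq.1 + pq.2) := by
  unfold sg quad
  dsimp only
  rw [← Nat.cast_add, zpow_natCast]

/-- the signed sum over the whole plane -/
lemma Bd.summable_plane {V : ℤ × ℤ → ModuleCat.{u} (Polynomial ℂ)} (h : Bd N a c b d V)
    (ha : ∀ q, 0 ≤ a q) (hc : ∀ p, 0 ≤ c p) (hsum : Summable fun p : ℕ => c p * (d p : ℝ)) :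
    Summable fun pq : ℤ × ℤ => sg pq * tr (V pq) := by
  rw [← Function.Injective.summable_iff quad_injective]
  · refine Summable.of_norm ?_
    refine (h.summable_norm ha hc hsum).congr fun pq => ?_
    simp only [Function.comp_apply, norm_mul, norm_sg, one_mul]
    rfl
  · intro pq hpq
    have : IsZero (V pq) := h.1 pq (by
      by_contra hcon
      exact hpq (mem_range_quad pq hcon))
    rw [tr_zero this, mul_zero]

lemma tsum_quad {V : ℤ × ℤ → ModuleCat.{u} (Polynomial ℂ)}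
    (h : ∀ pq : ℤ × ℤ, pq.1 < 0 ∨ pq.2 < 0 → IsZero (V pq)) :
    ∑' pq : ℕ × ℕ, (-1 : ℂ) ^ (pq.1 + pq.2) * tr (V ((pq.1 : ℤ), (pq.2 : ℤ))) =
      ∑' pq : ℤ × ℤ, sg pq * tr (V pq) := by
  rw [← Function.Injective.tsum_eq quad_injective]
  · refine tsum_congr fun pq => ?_
    rw [sg_quad]
    rfl
  · intro pq hpq
    by_contra hcon
    have : IsZero (V pq) := h pq (by
      by_contra hcon'
      exact hcon (mem_range_quad pq hcon'))
    exact hpq (by simp only [tr_zero this, mul_zero])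

/-- The sum of the contributions of the images cancels. -/
lemma tsum_shift (t : ℤ × ℤ → ℂ) (ht : Summable fun pq => sg pq * t pq) (v : ℤ × ℤ)
    (hv : v.1 + v.2 = 1) :
    (Summable fun pq => sg pq * t (pq - v)) ∧
      ∑' pq, sg pq * t (pq - v) = - ∑' pq, sg pq * t pq := by
  have e : ∀ pq : ℤ × ℤ, sg pq * t (pq - v) = -(sg ((Equiv.subRight v) pq) * t ((Equiv.subRight v) pq)) := by
    intro pq
    simp only [Equiv.subRight_apply]
    rw [← neg_mul]
    congr 1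
    unfold sg
    have : pq.1 + pq.2 = ((pq - v).1 + (pq - v).2) + 1 := by
      simp only [Prod.fst_sub, Prod.snd_sub]; omega
    rw [this, zpow_add₀ (by norm_num), zpow_one]; ring
  constructor
  · simp_rw [e]
    exact ((Equiv.subRight v).summable_iff.2 ht).neg
  · simp_rw [e]
    rw [tsum_neg, (Equiv.subRight v).tsum_eq (fun pq => sg pq * t pq)]

section Page

variable {r₀ : ℤ} (E : CohomologicalSpectralSequence (ModuleCat.{u} (Polynomial ℂ)) r₀)

lemma tr_image_congr {ι : Type*} {c : ComplexShape ι}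
    (L : HomologicalComplex (ModuleCat.{u} (Polynomial ℂ)) c) (x y y' : ι) (h : y = y') :
    tr (image (L.d x y)) = tr (image (L.d x y')) := by
  subst h; rfl

lemma tr_page (r : ℤ) (hr : r₀ ≤ r) (pq : ℤ × ℤ)
    (h : Module.Finite ℂ (rs ((E.page r hr).X pq))) :
    tr ((E.page r hr).X pq) = tr ((E.page (r + 1) (by omega)).X pq) +
      tr (image ((E.page r hr).d (pq - (r, 1 - r)) (pq - (r, 1 - r) + (r, 1 - r)))) +
      tr (image ((E.page r hr).d pq (pq + (r, 1 - r)))) := by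
  rw [tr_formula (E.page r hr) (pq - (r, 1 - r)) pq
        (pq + (r, 1 - r)) ((ComplexShape.up' ((r, 1 - r) : ℤ × ℤ)).prev_eq' (by
          change pq - (r, 1 - r) + (r, 1 - r) = pq; abel))
        ((ComplexShape.up' ((r, 1 - r) : ℤ × ℤ)).next_eq' rfl) h,
    tr_iso (E.iso r (r + 1) pq rfl hr),
    tr_image_congr (E.page r hr) (pq - (r, 1 - r)) (pq - (r, 1 - r) + (r, 1 - r)) pq (by abel)]

lemma Bd.succ {r : ℤ} {hr : r₀ ≤ r} (h : Bd N a c b d fun pq => (E.page r hr).X pq) :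
    Bd N a c b d fun pq => (E.page (r + 1) (Int.le_add_one hr)).X pq :=
  ((h.of_mono (V' := fun pq => (E.page r hr).cycles pq) (fun pq => (E.page r hr).iCycles pq)
    (fun pq => inferInstance)).of_epi (V' := fun pq => (E.page r hr).homology pq)
    (fun pq => (E.page r hr).homologyπ pq) (fun pq => inferInstance)).of_mono
    (fun pq => (E.iso r (r + 1) pq rfl hr).inv) (fun pq => inferInstance)

lemma Bd.im {r : ℤ} {hr : r₀ ≤ r} (h : Bd N a c b d fun pq => (E.page r hr).X pq) :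
    Bd N a c b d fun pq => image ((E.page r hr).d pq (pq + (r, 1 - r))) :=
  h.of_epi (fun pq => factorThruImage _) (fun pq => inferInstance)

lemma tsum_succ {r : ℤ} {hr : r₀ ≤ r} (h : Bd N a c b d fun pq => (E.page r hr).X pq)
    (ha : ∀ q, 0 ≤ a q) (hc : ∀ p, 0 ≤ c p) (hsum : Summable fun p : ℕ => c p * (d p : ℝ)) :
    ∑' pq : ℤ × ℤ, sg pq * tr ((E.page (r + 1) (Int.le_add_one hr)).X pq) =
      ∑' pq : ℤ × ℤ, sg pq * tr ((E.page r hr).X pq) := by
  have s1 := h.summable_plane ha hc hsum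
  have s2 := (Bd.succ E h).summable_plane ha hc hsum
  have s3 := (Bd.im E h).summable_plane ha hc hsum
  obtain ⟨s4, e4⟩ := tsum_shift _ s3 (r, 1 - r) (by dsimp only; omega)
  have e : ∀ pq : ℤ × ℤ, sg pq * tr ((E.page r hr).X pq) =
      sg pq * tr ((E.page (r + 1) (Int.le_add_one hr)).X pq) +
        (sg pq * tr (image ((E.page r hr).d (pq - (r, 1 - r)) (pq - (r, 1 - r) + (r, 1 - r)))) +
          sg pq * tr (image ((E.page r hr).d pq (pq + (r, 1 - r))))) := fun pq => by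
    rw [tr_page E r hr pq (h.2.1 pq)]; ring
  rw [tsum_congr e, s2.tsum_add (s4.add s3), s4.tsum_add s3, e4, neg_add_cancel, add_zero]

end Page

theorem main14284
    (E : E₂CohomologicalSpectralSequence (ModuleCat.{u} (Polynomial ℂ))) (r : ℤ) (hr : 2 ≤ r)
    (N : ℕ) (a c : ℕ → ℝ) (b d : ℕ → ℕ) (ha : ∀ q, 0 ≤ a q) (hc : ∀ p, 0 ≤ c p)
    (hsum : Summable fun p : ℕ => c p * (d p : ℝ))
    (h : Bd N a c b d fun pq => (E.page r hr).X pq) :
    (Bd N a c b d fun pq => (E.page (r + 1) (Int.le_add_one hr)).X pq) ∧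
      ∑' pq : ℕ × ℕ, (-1 : ℂ) ^ (pq.1 + pq.2) *
          tr ((E.page (r + 1) (Int.le_add_one hr)).X ((pq.1 : ℤ), (pq.2 : ℤ))) =
        ∑' pq : ℕ × ℕ, (-1 : ℂ) ^ (pq.1 + pq.2) *
          tr ((E.page r hr).X ((pq.1 : ℤ), (pq.2 : ℤ))) := by
  refine ⟨Bd.succ E h, ?_⟩
  rw [tsum_quad h.1, tsum_quad (Bd.succ E h).1]
  exact tsum_succ E h ha hc hsum

end K988.TrPage
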