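import Groth.Agent.SpSeq.K988.Conv
import Mathlib.Algebra.Homology.ExactSequence
import Mathlib.CategoryTheory.ComposableArrows.Basic
import Mathlib.CategoryTheory.Abelian.Exact

/-!
# Weak Serre classes and the spectral sequence of a filtered complex
-/

set_option autoImplicit false
set_option linter.style.haveILetI false
set_option linter.unusedSectionVars false
set_option linter.unusedVariables false

universe v u

open CategoryTheory CategoryTheory.Limits ZeroObject

namespace K988.Serre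

open SpSeq SpSeq.FilCx K988.SubRef K988.SubQ K988.FilCxEl K988.Conv

variable {A : Type u} [Category.{v} A] [Abelian A]

section Weak

variable (P : ObjectProperty A) [P.IsClosedUnderIsomorphisms] (h0 : ∃ Z : A, IsZero Z ∧ P Z)
  (hP : ∀ S : ComposableArrows A 4, S.Exact → P (S.obj 0) → P (S.obj 1) → P (S.obj 3) →
    P (S.obj 4) → P (S.obj 2))

lemma exact_mk₄ {X₀ X₁ X₂ X₃ X₄ : A} (f : X₀ ⟶ X₁) (g : X₁ ⟶ X₂) (h : X₂ ⟶ X₃) (i : X₃ ⟶ X₄)
    (w₁ : f ≫ g = 0) (w₂ : g ≫ h = 0) (w₃ : h ≫ i = 0)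
    (e₁ : (ShortComplex.mk f g w₁).Exact) (e₂ : (ShortComplex.mk g h w₂).Exact)
    (e₃ : (ShortComplex.mk h i w₃).Exact) : (ComposableArrows.mk₄ f g h i).Exact :=
  ComposableArrows.exact_of_δ₀ (ComposableArrows.exact₂_mk _ w₁ e₁)
    (ComposableArrows.exact_of_δ₀ (ComposableArrows.exact₂_mk _ w₂ e₂)
      (ComposableArrows.exact₂_mk _ w₃ e₃))

include h0 in
lemma prop_zero {Z : A} (hZ : IsZero Z) : P Z := by
  obtain ⟨Z', hZ', h⟩ := h0
  exact P.prop_of_iso (hZ'.iso hZ) h

include hP in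
lemma prop_mid {X₀ X₁ X₂ X₃ X₄ : A} (f : X₀ ⟶ X₁) (g : X₁ ⟶ X₂) (h : X₂ ⟶ X₃) (i : X₃ ⟶ X₄)
    (w₁ : f ≫ g = 0) (w₂ : g ≫ h = 0) (w₃ : h ≫ i = 0)
    (e₁ : (ShortComplex.mk f g w₁).Exact) (e₂ : (ShortComplex.mk g h w₂).Exact)
    (e₃ : (ShortComplex.mk h i w₃).Exact) (h₀ : P X₀) (h₁ : P X₁) (h₃ : P X₃) (h₄ : P X₄) :
    P X₂ :=
  hP _ (exact_mk₄ f g h i w₁ w₂ w₃ e₁ e₂ e₃) h₀ h₁ h₃ h₄

include h0 hP

lemma prop_kernel {X Y : A} (f : X ⟶ Y) (hX : P X) (hY : P Y) : P (kernel f) := by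
  have hz : P (0 : A) := prop_zero P h0 (isZero_zero A)
  refine prop_mid P hP (0 : (0 : A) ⟶ 0) (0 : (0 : A) ⟶ kernel f) (kernel.ι f) f (by simp)
    (by simp) (by simp) ?_ ?_ ?_ hz hz hX hY
  · exact ShortComplex.exact_of_isZero_X₂ _ (isZero_zero A)
  · rw [ShortComplex.exact_iff_mono _ rfl]; dsimp; infer_instance
  · exact ShortComplex.exact_of_f_is_kernel _ (kernelIsKernel f)

lemma prop_cokernel {X Y : A} (f : X ⟶ Y) (hX : P X) (hY : P Y) : P (cokernel f) := by
  have hz : P (0 : A) := prop_zero P h0 (isZero_zero A)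
  refine prop_mid P hP f (cokernel.π f) (0 : cokernel f ⟶ 0) (0 : (0 : A) ⟶ 0) (by simp)
    (by simp) (by simp) ?_ ?_ ?_ hX hY hz hz
  · exact ShortComplex.exact_of_g_is_cokernel _ (cokernelIsCokernel f)
  · rw [ShortComplex.exact_iff_epi _ rfl]; dsimp; infer_instance
  · exact ShortComplex.exact_of_isZero_X₂ _ (isZero_zero A)

lemma prop_ext {S : ShortComplex A} (hS : S.ShortExact) (h₁ : P S.X₁) (h₃ : P S.X₃) : P S.X₂ := by
  have hz : P (0 : A) := prop_zero P h0 (isZero_zero A)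
  haveI := hS.mono_f
  haveI := hS.epi_g
  refine prop_mid P hP (0 : (0 : A) ⟶ S.X₁) S.f S.g (0 : S.X₃ ⟶ (0 : A)) (by simp)
    (by simp) (by simp) ?_ hS.exact ?_ hz h₁ h₃ hz
  · rw [ShortComplex.exact_iff_mono _ rfl]; dsimp; infer_instance
  · rw [ShortComplex.exact_iff_epi _ rfl]; dsimp; infer_instance

lemma prop_X₁ {S : ShortComplex A} (hS : S.ShortExact) (h₂ : P S.X₂) (h₃ : P S.X₃) : P S.X₁ :=
  P.prop_of_iso ((kernelIsKernel S.g).conePointUniqueUpToIso hS.fIsKernel)
    (prop_kernel P h0 hP S.g h₂ h₃)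

lemma prop_X₃ {S : ShortComplex A} (hS : S.ShortExact) (h₁ : P S.X₁) (h₂ : P S.X₂) : P S.X₃ :=
  P.prop_of_iso ((cokernelIsCokernel S.f).coconePointUniqueUpToIso hS.gIsCokernel)
    (prop_cokernel P h0 hP S.f h₁ h₂)

lemma prop_image {X V Y : A} (e : X ⟶ V) (m : V ⟶ Y) [Epi e] [Mono m] (hX : P X) (hY : P Y) :
    P V := by
  have h1 : P (cokernel (e ≫ m)) := prop_cokernel P h0 hP _ hX hY
  have h2 : P (kernel (cokernel.π (e ≫ m))) := prop_kernel P h0 hP _ hY h1
  have i1 : kernel (cokernel.π (e ≫ m)) ≅ image (e ≫ m) := Abelian.imageIsoImage (e ≫ m)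
  haveI : StrongEpi e := strongEpi_of_epi e
  have i2 : V ≅ image (e ≫ m) := image.isoStrongEpiMono e m rfl
  exact P.prop_of_iso (i1 ≪≫ i2.symm) h2

end Weak

section Page

variable (K : FilCx A)

/-- `Z_r/Z_{r+1} ≅ B_{r+1}/B_r`. -/
noncomputable def zbIso (r : ℕ) (p n m q : ℤ) (h : n + 1 = m) (hq : q = p + r) :
    subquot (K.ZSub r p n) (K.ZSub (r + 1) p n) (zSub_anti K r p n) ≅
      subquot (K.BSub (r + 1) q m) (K.BSub r q m) (bSub_mono K r q m) :=
  isoOfElements (W := ((K.filX p n ⊓ (Subobject.pullback (K.obj.d n m)).obj (K.filX q m) :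
      Subobject (K.obj.X n)) : A)) _ _ _ _ _ _
    ((K.filX p n ⊓ (Subobject.pullback (K.obj.d n m)).obj (K.filX q m)).arrow)
    (by
      rw [zSub_iff K r p n m q h hq]
      have h1 := (factors_inf_iff _ _ _).1 (Subobject.factors_self
        (K.filX p n ⊓ (Subobject.pullback (K.obj.d n m)).obj (K.filX q m)))
      rw [factors_pullback_iff] at h1
      exact ⟨_, 𝟙 _, inferInstance, _, 0, h1.1, h1.2, factors_zero _, by simp⟩)
    ((K.filX p n ⊓ (Subobject.pullback (K.obj.d n m)).obj (K.filX q m)).arrow ≫ K.obj.d n m)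
    (by
      rw [bSub_iff K (r + 1) q n m p h (by push_cast; omega)]
      have h1 := (factors_inf_iff _ _ _).1 (Subobject.factors_self
        (K.filX p n ⊓ (Subobject.pullback (K.obj.d n m)).obj (K.filX q m)))
      rw [factors_pullback_iff] at h1
      exact ⟨_, 𝟙 _, inferInstance, _, 0, h1.1, h1.2, factors_zero _, by simp⟩)
    (by
      intro T z hz
      rw [zSub_iff K r p n m q h hq] at hz
      obtain ⟨T', π, hπ, a, b, ha, ha', hb, e⟩ := hz
      have h1 : (K.filX p n ⊓ (Subobject.pullback (K.obj.d n m)).obj (K.filX q m)).Factors a := by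
        rw [factors_inf_iff, factors_pullback_iff]; exact ⟨ha, ha'⟩
      refine ⟨T', π, hπ, Subobject.factorThru _ a h1, b, ?_, ?_⟩
      · rw [zSub_iff K (r + 1) p n m (q + 1) h (by push_cast; omega)]
        exact ⟨T', 𝟙 _, inferInstance, 0, b, factors_zero _, by simp [factors_zero], hb, by simp⟩
      · rw [Subobject.factorThru_arrow, e])
    (by
      intro T z hz
      rw [bSub_iff K (r + 1) q n m p h (by push_cast; omega)] at hz
      obtain ⟨T', π, hπ, y, b, hy, hy', hb, e⟩ := hz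
      have h1 : (K.filX p n ⊓ (Subobject.pullback (K.obj.d n m)).obj (K.filX q m)).Factors y := by
        rw [factors_inf_iff, factors_pullback_iff]; exact ⟨hy, hy'⟩
      refine ⟨T', π, hπ, Subobject.factorThru _ y h1, b, ?_, ?_⟩
      · rw [bSub_iff K r q n m (p + 1) h (by omega)]
        exact ⟨T', 𝟙 _, inferInstance, 0, b, factors_zero _, by simp [factors_zero], hb, by simp⟩
      · rw [Subobject.factorThru_arrow_assoc, e])
    (by
      intro T x
      set y := x ≫ (K.filX p n ⊓ (Subobject.pullback (K.obj.d n m)).obj (K.filX q m)).arrow with hy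
      have h1 : (K.filX p n ⊓ (Subobject.pullback (K.obj.d n m)).obj (K.filX q m)).Factors y :=
        Subobject.factors_comp_arrow _
      rw [factors_inf_iff, factors_pullback_iff] at h1
      rw [← Category.assoc, ← hy, zSub_iff K (r + 1) p n m (q + 1) h (by push_cast; omega),
        bSub_iff K r q n m (p + 1) h (by omega)]
      constructor
      · rintro ⟨T', π, hπ, a, b, ha, ha', hb, e⟩
        refine ⟨T', π, hπ, b, a ≫ K.obj.d n m, hb, ?_, ha', ?_⟩
        · have : b ≫ K.obj.d n m = π ≫ (y ≫ K.obj.d n m) - a ≫ K.obj.d n m := by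
            rw [← Category.assoc, e, Preadditive.add_comp, add_sub_cancel_left]
          rw [this]
          exact factors_sub _ (factors_precomp _ _ h1.2) (filX_mono K (by omega) ha')
        · rw [← Category.assoc, e, Preadditive.add_comp, add_comm]
      · rintro ⟨T', π, hπ, b, c, hb, hb', hc, e⟩
        refine ⟨T', π, hπ, π ≫ y - b, b, ?_, ?_, hb, by abel⟩
        · exact factors_sub _ (factors_precomp _ _ h1.1) (filX_mono K (by omega) hb)
        · rw [Preadditive.sub_comp, Category.assoc, e, add_sub_cancel_left]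
          exact hc)

variable (P : ObjectProperty A) [P.IsClosedUnderIsomorphisms] (h0 : ∃ Z : A, IsZero Z ∧ P Z)
  (hP : ∀ S : ComposableArrows A 4, S.Exact → P (S.obj 0) → P (S.obj 1) → P (S.obj 3) →
    P (S.obj 4) → P (S.obj 2))

include h0 hP

lemma prop_bb (r : ℕ) (hr : ∀ p n : ℤ, P (K.E r p n)) (q m : ℤ) :
    P (subquot (K.BSub (r + 1) q m) (K.BSub r q m) (bSub_mono K r q m)) := by
  obtain ⟨n, h⟩ : ∃ n, n + 1 = m := ⟨m - 1, by omega⟩
  let e : K.E r (q - r) n ⟶ subquot (K.BSub (r + 1) q m) (K.BSub r q m) (bSub_mono K r q m) :=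
    quo (K.ZSub r (q - r) n) (K.ZSub (r + 1) (q - r) n) (K.BSub r (q - r) n)
      (bSub_le_zSub' K r (r + 1) _ _) (zSub_anti K r _ _) ≫
        (zbIso K r (q - r) n m q h (by omega)).hom
  let i : subquot (K.BSub (r + 1) q m) (K.BSub r q m) (bSub_mono K r q m) ⟶ K.E r q m :=
    incl (K.ZSub r q m) (K.BSub (r + 1) q m) (K.BSub r q m) (bSub_mono K r q m)
      (bSub_le_zSub' K (r + 1) r _ _)
  haveI : Epi e := epi_comp' (inferInstanceAs (Epi (quo (K.ZSub r (q - r) n)
    (K.ZSub (r + 1) (q - r) n) (K.BSub r (q - r) n) (bSub_le_zSub' K r (r + 1) _ _)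
      (zSub_anti K r _ _)))) inferInstance
  haveI : Mono i := inferInstanceAs (Mono (incl _ _ _ _ _))
  exact prop_image P h0 hP e i (hr _ _) (hr _ _)

lemma prop_zz (r : ℕ) (hr : ∀ p n : ℤ, P (K.E r p n)) (p n : ℤ) :
    P (subquot (K.ZSub r p n) (K.ZSub (r + 1) p n) (zSub_anti K r p n)) :=
  P.prop_of_iso (zbIso K r p n (n + 1) (p + r) rfl rfl).symm (prop_bb K P h0 hP r hr _ _)

lemma prop_succ (r : ℕ) (hr : ∀ p n : ℤ, P (K.E r p n)) (p n : ℤ) : P (K.E (r + 1) p n) := by
  have h1 : P (subquot (K.ZSub (r + 1) p n) (K.BSub r p n) (bSub_le_zSub' K r (r + 1) _ _)) :=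
    prop_X₁ P h0 hP (SubQ.shortExact (K.ZSub r p n) (K.ZSub (r + 1) p n) (K.BSub r p n)
      (bSub_le_zSub' K r (r + 1) _ _) (zSub_anti K r _ _)) (hr p n) (prop_zz K P h0 hP r hr p n)
  exact prop_X₃ P h0 hP (SubQ.shortExact (K.ZSub (r + 1) p n) (K.BSub (r + 1) p n) (K.BSub r p n)
      (bSub_mono K r _ _) (bSub_le_zSub' K (r + 1) (r + 1) _ _)) (prop_bb K P h0 hP r hr p n) h1

lemma prop_add (r : ℕ) (hr : ∀ p n : ℤ, P (K.E r p n)) (k : ℕ) (p n : ℤ) :
    P (K.E (r + k) p n) := by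
  induction k generalizing p n with
  | zero => exact hr p n
  | succ k ih => exact prop_succ K P h0 hP (r + k) ih p n

omit [P.IsClosedUnderIsomorphisms] h0 hP in
lemma shortExact_gr (H : FilObj A) (p : ℤ) :
    (ShortComplex.mk ((H.fil (p + 1)).ofLE (H.fil p) (H.anti (Int.le_add_one le_rfl)))
      (proj (H.fil p) (H.fil (p + 1)) (H.anti (Int.le_add_one le_rfl))) (ofLE_proj _ _ _)).ShortExact where
  exact := ShortComplex.exact_of_g_is_cokernel _
    (cokernelIsCokernel ((H.fil (p + 1)).ofLE (H.fil p) (H.anti (Int.le_add_one le_rfl))))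
  mono_f := by dsimp; infer_instance
  epi_g := by dsimp; infer_instance

omit [P.IsClosedUnderIsomorphisms] h0 hP in
lemma isZero_of_eq_bot {X : A} (S : Subobject X) (h : S = ⊥) : IsZero (S : A) := by
  rw [IsZero.iff_id_eq_zero, ← cancel_mono S.arrow, zero_comp, Category.id_comp,
    ← factors_bot_iff, ← h]
  exact Subobject.factors_self S

lemma prop_of_filObj (H : FilObj A) (hfin : H.IsFinite) (hgr : ∀ p : ℤ, P (H.gr p)) : P H.obj := by
  obtain ⟨⟨a, ha⟩, ⟨b, hb⟩⟩ := hfin
  have key : ∀ (k : ℕ) (p : ℤ), p + k = b → P ((H.fil p : Subobject H.obj) : A) := by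
    intro k
    induction k with
    | zero =>
      intro p hp
      obtain rfl : p = b := by simpa using hp
      exact prop_zero P h0 (isZero_of_eq_bot _ hb)
    | succ k ih =>
      intro p hp
      exact prop_ext P h0 hP (shortExact_gr H p) (ih (p + 1) (by push_cast at hp; omega)) (hgr p)
  have h1 : H.fil (min a b) = ⊤ := le_antisymm le_top (ha.ge.trans (H.anti (min_le_left a b)))
  have h2 := key (b - min a b).toNat (min a b) (by omega)
  haveI : IsIso (H.fil (min a b)).arrow := (Subobject.isIso_iff_mk_eq_top _).2 (by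
    rw [Subobject.mk_arrow, h1])
  exact P.prop_of_iso (asIso (H.fil (min a b)).arrow) h2

omit [P.IsClosedUnderIsomorphisms] h0 hP in
lemma cyc_arrow {n m : ℤ} (p : ℤ) :
    (K.filX p n ⊓ kernelSubobject (K.obj.d n m)).arrow ≫ K.obj.d n m = 0 := by
  have h1 := (factors_inf_iff _ _ _).1 (Subobject.factors_self
        (K.filX p n ⊓ kernelSubobject (K.obj.d n m)))
  rw [factors_kernel_iff] at h1
  exact h1.2

omit [P.IsClosedUnderIsomorphisms] h0 hP in
lemma factors_arrow {n m : ℤ} (p : ℤ) :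
    (K.filX p n).Factors (K.filX p n ⊓ kernelSubobject (K.obj.d n m)).arrow :=
  ((factors_inf_iff _ _ _).1 (Subobject.factors_self
        (K.filX p n ⊓ kernelSubobject (K.obj.d n m)))).1

omit [P.IsClosedUnderIsomorphisms] h0 hP in
lemma factors_of_cyc {n m : ℤ} (p : ℤ) {T : A} {a : T ⟶ K.obj.X n} (ha : (K.filX p n).Factors a)
    (ha' : a ≫ K.obj.d n m = 0) : (K.filX p n ⊓ kernelSubobject (K.obj.d n m)).Factors a := by
  rw [factors_inf_iff, factors_kernel_iff]; exact ⟨ha, ha'⟩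

omit [P.IsClosedUnderIsomorphisms] h0 hP in
lemma comp_lift {n m : ℤ} (h : n + 1 = m) {T W : A} (x : T ⟶ W) (w : W ⟶ K.obj.X n)
    (hw : w ≫ K.obj.d n m = 0) :
    x ≫ K.obj.liftCycles w m (next_eq h) hw ≫ K.obj.homologyπ n =
      K.obj.liftCycles (x ≫ w) m (next_eq h) (by rw [Category.assoc, hw, comp_zero]) ≫
        K.obj.homologyπ n := by
  rw [HomologicalComplex.comp_liftCycles_assoc]

/-- `gr^p H^n(K) ≅ ZTop/BBot`. -/
noncomputable def grIso (p n : ℤ) :
    subquot (K.ZTop p n) (K.BBot p n) (bBot_le_zTop K p n) ≅ (K.HFil n).gr p :=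
  isoOfElements (W := ((K.filX p n ⊓ kernelSubobject (K.obj.d n (n + 1)) :
      Subobject (K.obj.X n)) : A)) _ _ _ (K.filH p n) (K.filH (p + 1) n)
      (K.filH_anti n (Int.le_add_one le_rfl))
    (K.filX p n ⊓ kernelSubobject (K.obj.d n (n + 1))).arrow
    (by
      rw [zTop_iff K p n (n + 1) rfl]
      exact ⟨_, 𝟙 _, inferInstance, _, 0, factors_arrow K p, cyc_arrow K p, factors_zero _,
        by simp⟩)
    (K.obj.liftCycles (K.filX p n ⊓ kernelSubobject (K.obj.d n (n + 1))).arrow (n + 1)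
      (next_eq rfl) (cyc_arrow K p) ≫ K.obj.homologyπ n)
    (by
      rw [filH_iff K p n (n + 1) rfl]
      exact ⟨_, 𝟙 _, inferInstance, _, cyc_arrow K p, factors_arrow K p, Category.id_comp _⟩)
    (by
      intro T z hz
      rw [zTop_iff K p n (n + 1) rfl] at hz
      obtain ⟨T', π, hπ, a, b, ha, ha', hb, e⟩ := hz
      refine ⟨T', π, hπ, Subobject.factorThru _ a (factors_of_cyc K p ha ha'), b, ?_, ?_⟩
      · rw [bBot_iff K p (n - 1) n (by omega)]
        exact ⟨T', 𝟙 _, inferInstance, 0, b, by simp [factors_zero], hb, by simp⟩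
      · rw [Subobject.factorThru_arrow, e])
    (by
      intro T z hz
      rw [filH_iff K p n (n + 1) rfl] at hz
      obtain ⟨T', π, hπ, c, hc, hc', e⟩ := hz
      refine ⟨T', π, hπ, Subobject.factorThru _ c (factors_of_cyc K p hc' hc), 0,
        factors_zero _, ?_⟩
      rw [comp_lift K rfl, add_zero, e]
      simp only [Subobject.factorThru_arrow])
    (by
      intro T x
      rw [comp_lift K rfl]
      set y := x ≫ (K.filX p n ⊓ kernelSubobject (K.obj.d n (n + 1))).arrow with hy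
      have hy0 : y ≫ K.obj.d n (n + 1) = 0 := by rw [hy, Category.assoc, cyc_arrow, comp_zero]
      have hy1 : (K.filX p n).Factors y := factors_precomp _ _ (factors_arrow K p)
      rw [bBot_iff K p (n - 1) n (by omega), filH_iff K (p + 1) n (n + 1) rfl]
      constructor
      · rintro ⟨T', π, hπ, z, b, hz, hb, e⟩
        have hb0 : b ≫ K.obj.d n (n + 1) = 0 := by
          have : b = π ≫ y - z ≫ K.obj.d (n - 1) n := by rw [e, add_sub_cancel_left]
          rw [this, Preadditive.sub_comp, Category.assoc, hy0, comp_zero, Category.assoc,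
            HomologicalComplex.d_comp_d, comp_zero, sub_zero]
        refine ⟨T', π, hπ, b, hb0, hb, ?_⟩
        rw [comp_lift K rfl, HomologicalComplex.liftCycles_comp_homologyπ_eq_iff_up_to_refinements
          _ (n - 1) n (n + 1) (prev_eq (by omega)) (next_eq rfl)]
        exact ⟨T', 𝟙 _, inferInstance, z, by rw [Category.id_comp, Category.id_comp, e, add_comm]⟩
      · rintro ⟨T', π, hπ, c, hc, hc', e⟩
        rw [comp_lift K rfl, HomologicalComplex.liftCycles_comp_homologyπ_eq_iff_up_to_refinements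
          _ (n - 1) n (n + 1) (prev_eq (by omega)) (next_eq rfl)] at e
        obtain ⟨T₁, π₁, hπ₁, z, e₁⟩ := e
        refine ⟨T₁, π₁ ≫ π, inferInstance, z, π₁ ≫ c, ?_, factors_precomp _ _ hc', ?_⟩
        · have : z ≫ K.obj.d (n - 1) n = π₁ ≫ π ≫ y - π₁ ≫ c := by rw [e₁, add_sub_cancel_left]
          rw [this]
          exact factors_sub _ (factors_precomp _ _ (factors_precomp _ _ hy1))
            (factors_precomp _ _ (filX_mono K (by omega) hc'))
        · rw [Category.assoc, e₁, add_comm])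

theorem main93 (hK : ∀ n : ℤ, (K.XFil n).IsFinite) (r : ℕ) (hr : ∀ p n : ℤ, P (K.E r p n))
    (n : ℤ) : P (K.obj.homology n) := by
  have hgr : ∀ p : ℤ, P ((K.HFil n).gr p) := by
    intro p
    obtain ⟨r₀, h₀⟩ := exists_zSub_eq K (h0_of_finite K hK) p n
    obtain ⟨r₁, h₁⟩ := exists_bSub_eq K (h1_of_finite K hK) p n
    have h2 := prop_add K P h0 hP r hr (r₀ + r₁) p n
    refine P.prop_of_iso (grIso K p n) ?_
    have e1 := h₀ (r + (r₀ + r₁)) (by omega)
    have e2 := h₁ (r + (r₀ + r₁)) (by omega)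
    have key : ∀ (Z B : Subobject (K.obj.X n)) (h : B ≤ Z) (Z' B' : Subobject (K.obj.X n))
        (h' : B' ≤ Z'), Z = Z' → B = B' → P (subquot Z B h) → P (subquot Z' B' h') := by
      intro Z B h Z' B' h' e e' hp
      subst e e'
      exact hp
    exact key _ _ _ _ _ _ e1 e2 h2
  exact prop_of_filObj P h0 hP (K.HFil n) ((main92 K hK).2.1 n) hgr

end Page

end K988.Serre
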