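import Groth.Agent.SpSeq.K988.Abs
import Groth.Agent.SpSeq.K988.Serre
import Mathlib.Algebra.Category.ModuleCat.Abelian
import Mathlib.Algebra.Homology.ShortComplex.ModuleCat
import Mathlib.LinearAlgebra.FiniteDimensional.Lemmas
import Mathlib.Algebra.Order.BigOperators.Group.Finset
import Mathlib.Algebra.BigOperators.Intervals
import Mathlib.Data.Int.SuccPred

/-!
# Dimension count for spectral sequences of vector spaces
-/

set_option autoImplicit false
set_option linter.style.haveILetI false
set_option linter.unusedSectionVars false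
set_option linter.unusedVariables false

universe v u

open CategoryTheory CategoryTheory.Limits

namespace K988.Dim

open SpSeq K988.SubRef K988.SubQ K988.Abs Module

variable {K : Type u} [Field K]

section Complex

variable {ι : Type*} {c : ComplexShape ι} (L : HomologicalComplex (ModuleCat.{v} K) c) (i : ι)

lemma finrank_le_of_mono {X Y : ModuleCat.{v} K} (f : X ⟶ Y) [Mono f] [Module.Finite K Y] :
    finrank K X ≤ finrank K Y :=
  LinearMap.finrank_le_finrank_of_injective (f := f.hom) ((ModuleCat.mono_iff_injective f).1 inferInstance)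

lemma finite_of_mono {X Y : ModuleCat.{v} K} (f : X ⟶ Y) [Mono f] [Module.Finite K Y] :
    Module.Finite K X :=
  Module.Finite.of_injective f.hom ((ModuleCat.mono_iff_injective f).1 inferInstance)

lemma finrank_le_of_epi {X Y : ModuleCat.{v} K} (f : X ⟶ Y) [Epi f] [Module.Finite K X] :
    finrank K Y ≤ finrank K X :=
  LinearMap.finrank_le_finrank_of_surjective (f := f.hom) ((ModuleCat.epi_iff_surjective f).1 inferInstance)

lemma finite_of_epi {X Y : ModuleCat.{v} K} (f : X ⟶ Y) [Epi f] [Module.Finite K X] :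
    Module.Finite K Y :=
  Module.Finite.of_surjective f.hom ((ModuleCat.epi_iff_surjective f).1 inferInstance)

lemma isIso_of_mono_of_finrank_eq {X Y : ModuleCat.{v} K} (f : X ⟶ Y) [Mono f] [Module.Finite K Y]
    (h : finrank K X = finrank K Y) : IsIso f := by
  haveI := finite_of_mono f
  have h1 := (ModuleCat.mono_iff_injective f).1 inferInstance
  have h2 := (LinearMap.injective_iff_surjective_of_finrank_eq_finrank h (f := f.hom)).1 h1
  haveI : Epi f := (ModuleCat.epi_iff_surjective f).2 h2
  exact isIso_of_mono_of_epi f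

lemma isIso_of_epi_of_finrank_eq {X Y : ModuleCat.{v} K} (f : X ⟶ Y) [Epi f] [Module.Finite K X]
    (h : finrank K X = finrank K Y) : IsIso f := by
  haveI := finite_of_epi f
  have h1 := (ModuleCat.epi_iff_surjective f).1 inferInstance
  have h2 := (LinearMap.injective_iff_surjective_of_finrank_eq_finrank h (f := f.hom)).2 h1
  haveI : Mono f := (ModuleCat.mono_iff_injective f).2 h2
  exact isIso_of_mono_of_epi f

lemma finite_homology [Module.Finite K (L.X i)] : Module.Finite K (L.homology i) := by
  haveI := finite_of_mono (L.iCycles i)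
  exact finite_of_epi (L.homologyπ i)

lemma finrank_homology_le [Module.Finite K (L.X i)] :
    finrank K (L.homology i) ≤ finrank K (L.X i) := by
  haveI := finite_of_mono (L.iCycles i)
  exact (finrank_le_of_epi (L.homologyπ i)).trans (finrank_le_of_mono (L.iCycles i))

lemma d_eq_zero_of_finrank_eq [Module.Finite K (L.X i)]
    (h : finrank K (L.homology i) = finrank K (L.X i)) :
    (∀ j, L.d i j = 0) ∧ (∀ j, L.d j i = 0) := by
  haveI := finite_of_mono (L.iCycles i)
  have h1 := finrank_le_of_epi (L.homologyπ i)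
  have h2 := finrank_le_of_mono (L.iCycles i)
  haveI := isIso_of_mono_of_finrank_eq (L.iCycles i) (by omega)
  haveI := isIso_of_epi_of_finrank_eq (L.homologyπ i) (by omega)
  constructor
  · intro j
    rw [← cancel_epi (L.iCycles i), L.iCycles_d, comp_zero]
  · intro j
    rw [← L.toCycles_i]
    have : L.toCycles j i = 0 := by
      rw [← cancel_mono (L.homologyπ i), L.toCycles_comp_homologyπ, zero_comp]
    rw [this, zero_comp]

end Complex

section SS

variable {r₀ : ℤ} (E : CohomologicalSpectralSequence (ModuleCat.{v} K) r₀)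

lemma finite_page_congr {r r' : ℤ} (h : r = r') (hr : r₀ ≤ r) (hr' : r₀ ≤ r') {pq : ℤ × ℤ}
    (hz : Module.Finite K ((E.page r hr).X pq)) : Module.Finite K ((E.page r' hr').X pq) := by
  subst h; exact hz

lemma finrank_page_congr {r r' : ℤ} (h : r = r') (hr : r₀ ≤ r) (hr' : r₀ ≤ r') {pq : ℤ × ℤ} :
    finrank K ((E.page r hr).X pq) = finrank K ((E.page r' hr').X pq) := by
  subst h; rfl

lemma finrank_eq_of_iso {X Y : ModuleCat.{v} K} (e : X ≅ Y) : finrank K X = finrank K Y :=
  LinearEquiv.finrank_eq e.toLinearEquiv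

lemma finite_of_iso {X Y : ModuleCat.{v} K} (e : X ≅ Y) (h : Module.Finite K X) :
    Module.Finite K Y := Module.Finite.equiv e.toLinearEquiv

lemma finite_page (pq : ℤ × ℤ) (r : ℤ) (hr : r₀ ≤ r) (h : Module.Finite K ((E.page r hr).X pq))
    (k : ℕ) : Module.Finite K ((E.page (r + k) (by omega)).X pq) := by
  induction k with
  | zero => exact finite_page_congr E (by simp) _ _ h
  | succ k ih =>
    haveI := ih
    have hk : r₀ ≤ r + k := by omega
    have := finite_homology (E.page (r + k) hk) pq
    exact finite_page_congr E (by push_cast; ring) _ _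
      (finite_of_iso (E.iso (r + k) (r + k + 1) pq rfl (by omega)) this)

lemma finrank_page_le (pq : ℤ × ℤ) (r : ℤ) (hr : r₀ ≤ r) (h : Module.Finite K ((E.page r hr).X pq))
    (k : ℕ) : finrank K ((E.page (r + k) (by omega)).X pq) ≤ finrank K ((E.page r hr).X pq) := by
  induction k with
  | zero => exact (finrank_page_congr E (by simp) _ _).le
  | succ k ih =>
    haveI := finite_page E pq r hr h k
    have hk : r₀ ≤ r + k := by omega
    have := finrank_homology_le (E.page (r + k) hk) pq
    rw [finrank_eq_of_iso (E.iso (r + k) (r + k + 1) pq rfl (by omega))] at this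
    rw [finrank_page_congr E (r := r + (k + 1 : ℕ)) (r' := r + k + 1) (by push_cast; ring) _ (by omega)]
    exact this.trans ih

lemma finite_page' (pq : ℤ × ℤ) (r : ℤ) (hr : r₀ ≤ r) (h : Module.Finite K ((E.page r hr).X pq))
    (s : ℤ) (hs : r ≤ s) : Module.Finite K ((E.page s (hr.trans hs)).X pq) :=
  finite_page_congr E (by omega) _ _ (finite_page E pq r hr h (s - r).toNat)

lemma finrank_page_le' (pq : ℤ × ℤ) (r : ℤ) (hr : r₀ ≤ r)
    (h : Module.Finite K ((E.page r hr).X pq))
    (s : ℤ) (hs : r ≤ s) :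
    finrank K ((E.page s (hr.trans hs)).X pq) ≤ finrank K ((E.page r hr).X pq) := by
  rw [finrank_page_congr E (r := s) (r' := r + (s - r).toNat) (by omega) _ (by omega)]
  exact finrank_page_le E pq r hr h _

end SS

section Fil

variable {X : ModuleCat.{v} K} (F : ℤ → Subobject X) (hF : Antitone F)

lemma finrank_shortExact {S : ShortComplex (ModuleCat.{v} K)} (hS : S.ShortExact)
    [Module.Finite K S.X₂] : finrank K S.X₂ = finrank K S.X₁ + finrank K S.X₃ := by
  haveI := hS.mono_f
  haveI := hS.epi_g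
  have h1 := LinearMap.finrank_range_add_finrank_ker S.g.hom
  have h2 : LinearMap.range S.g.hom = ⊤ :=
    LinearMap.range_eq_top.2 ((ModuleCat.epi_iff_surjective S.g).1 inferInstance)
  have h3 : LinearMap.ker S.g.hom = LinearMap.range S.f.hom :=
    hS.exact.moduleCat_range_eq_ker.symm
  rw [h2, h3, finrank_top, LinearMap.finrank_range_of_inj
    ((ModuleCat.mono_iff_injective S.f).1 inferInstance)] at h1
  omega

lemma finrank_step (p : ℤ) [Module.Finite K X] :
    finrank K ((F p : Subobject X) : ModuleCat.{v} K) =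
      finrank K ((F (p + 1) : Subobject X) : ModuleCat.{v} K) + finrank K (grPiece F hF p : ModuleCat.{v} K) := by
  haveI := finite_of_mono (F p).arrow
  exact finrank_shortExact (Serre.shortExact_gr (⟨X, F, hF⟩ : FilObj (ModuleCat.{v} K)) p)

lemma finrank_sum (k : ℕ) [Module.Finite K X] : ∀ (p : ℤ), F (p + k) = ⊥ →
    finrank K ((F p : Subobject X) : ModuleCat.{v} K) =
      ∑ i ∈ Finset.Ico p (p + k), finrank K (grPiece F hF i : ModuleCat.{v} K) := by
  induction k with
  | zero =>
    intro p hp
    simp only [Nat.cast_zero, add_zero, Finset.Ico_self, Finset.sum_empty] at hp ⊢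
    have := Serre.isZero_of_eq_bot (F p) hp
    haveI : Subsingleton ((F p : Subobject X) : ModuleCat.{v} K) :=
      ModuleCat.subsingleton_of_isZero this
    exact finrank_zero_of_subsingleton
  | succ k ih =>
    intro p hp
    have e : (p + ((k + 1 : ℕ) : ℤ)) = p + 1 + k := by push_cast; ring
    rw [finrank_step F hF p, ih (p + 1) (by rwa [← e]), e]
    rw [← Finset.insert_Ico_add_one_left_eq_Ico (a := p) (b := p + 1 + k) (by omega),
      Finset.sum_insert (by simp), add_comm]

end Fil

theorem main19322 {r₀ : ℤ}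
    (E : CohomologicalSpectralSequence (ModuleCat.{v} K) r₀) (H : ℤ → ModuleCat.{v} K)
    (a : SpSeq.Abutment E H) (n : ℤ) (hfin : a.IsFinite n)
    (hquad : ∀ pq : ℤ × ℤ, pq.1 < 0 ∨ pq.2 < 0 → IsZero ((E.page r₀ le_rfl).X pq))
    (hfd : ∀ pq : ℤ × ℤ, Module.Finite K ((E.page r₀ le_rfl).X pq))
    (hH : Module.Finite K (H n))
    (hsum : ∑ s ∈ Finset.Icc (0 : ℤ) n, Module.finrank K ((E.page r₀ le_rfl).X (s, n - s)) =
      Module.finrank K (H n)) :
    ∀ s : ℤ, SpSeq.StationaryAt E (s, n - s) r₀ := by
  -- outside of the quadrant everything vanishes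
  have hgr0 : ∀ p : ℤ, p < 0 ∨ n - p < 0 → IsZero (grPiece (a.fil n) (a.anti n) p) := fun p hp =>
    isZero_grPiece' a r₀ le_rfl n p (n - p) (by ring) (hquad _ hp)
  intro s
  by_cases hs : s < 0 ∨ n - s < 0
  · have h0 := fun r (hr : r₀ ≤ r) => isZero_page_of_le E r₀ le_rfl (s, n - s) (hquad _ hs) r hr
    exact ⟨le_rfl, fun r hr _ => ⟨(h0 r hr).eq_of_tgt _ _, (h0 r hr).eq_of_src _ _⟩⟩
  push Not at hs
  have hn : 0 ≤ n := by omega
  -- the dimension of the abutment
  have hbot : a.fil n (n + 1) = ⊥ := eq_bot_of_isZero (a.fil n) (a.anti n) (n + 1) hfin.2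
    (fun i hi => hgr0 i (Or.inr (by omega)))
  have htop : a.fil n 0 = ⊤ := eq_top_of_isZero (a.fil n) (a.anti n) 0
    (Conv.isExhaustive_of_isCodiscrete _ hfin.1) (fun i hi => hgr0 i (Or.inl hi))
  have hdim : finrank K (H n) =
      ∑ i ∈ Finset.Icc (0 : ℤ) n, finrank K (grPiece (a.fil n) (a.anti n) i : ModuleCat.{v} K) := by
    have h1 := finrank_sum (a.fil n) (a.anti n) (n + 1).toNat 0 (by
      rw [← hbot]; congr 1; omega)
    have h2 : Finset.Ico (0 : ℤ) (0 + (n + 1).toNat) = Finset.Icc 0 n := by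
      ext x; simp only [Finset.mem_Ico, Finset.mem_Icc]; omega
    rw [h2] at h1
    rw [← h1]
    haveI : IsIso (a.fil n 0).arrow := (Subobject.isIso_arrow_iff_eq_top _).2 htop
    exact (finrank_eq_of_iso (asIso (a.fil n 0).arrow)).symm
  have hβ : ∀ p : ℤ, finrank K (grPiece (a.fil n) (a.anti n) p : ModuleCat.{v} K) =
      finrank K ((E.page (a.rk (p, n - p)) (a.stat (p, n - p)).1).X (p, n - p)) := fun p =>
    finrank_eq_of_iso (grIso' a (a.rk (p, n - p)) n p (n - p) (by ring) (a.stat _))
  have hle : ∀ p ∈ Finset.Icc (0 : ℤ) n, finrank K (grPiece (a.fil n) (a.anti n) p : ModuleCat.{v} K) ≤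
      finrank K ((E.page r₀ le_rfl).X (p, n - p)) := fun p _ => by
    rw [hβ]
    exact finrank_page_le' E (p, n - p) r₀ le_rfl (hfd _) _ (a.stat _).1
  have heq : ∀ p ∈ Finset.Icc (0 : ℤ) n, finrank K (grPiece (a.fil n) (a.anti n) p : ModuleCat.{v} K) =
      finrank K ((E.page r₀ le_rfl).X (p, n - p)) :=
    (Finset.sum_eq_sum_iff_of_le hle).1 (by rw [hsum, hdim])
  have hs' := heq s (by rw [Finset.mem_Icc]; omega)
  rw [hβ] at hs'
  refine ⟨le_rfl, fun r hr _ => ?_⟩
  rcases le_or_gt (a.rk (s, n - s)) r with h | h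
  · exact (a.stat (s, n - s)).2 r hr h
  · haveI := finite_page' E (s, n - s) r₀ le_rfl (hfd _) r hr
    have h1 := finrank_page_le' E (s, n - s) r₀ le_rfl (hfd _) r hr
    have h2 := finrank_homology_le (E.page r hr) (s, n - s)
    have h3 := finrank_eq_of_iso (E.iso r (r + 1) (s, n - s) rfl hr)
    have h4 := finrank_page_le' E (s, n - s) (r + 1) (by omega)
      (finite_page' E (s, n - s) r₀ le_rfl (hfd _) (r + 1) (by omega)) (a.rk (s, n - s)) (by omega)
    obtain ⟨h5, h6⟩ := d_eq_zero_of_finrank_eq (E.page r hr) (s, n - s) (by omega)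
    exact ⟨h6 _, h5 _⟩

end K988.Dim
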