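import Groth.Agent.SpSeq.K988.SubQ
import Groth.Prelude.Def_W4c1gvcharpAbut
import Mathlib.Algebra.Homology.Refinements
import Mathlib.Tactic.Ring

/-!
# Abstract cohomological spectral sequences: vanishing and stationarity
-/

set_option autoImplicit false
set_option linter.style.haveILetI false
set_option linter.unusedSectionVars false
set_option linter.unusedVariables false

universe v u

open CategoryTheory CategoryTheory.Limits

namespace K988.Abs

open SpSeq K988.SubRef K988.SubQ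

variable {C : Type u} [Category.{v} C] [Abelian C] {r₀ : ℤ}

section

variable (E : CohomologicalSpectralSequence C r₀)

lemma isZero_page_congr {r r' : ℤ} (h : r = r') (hr : r₀ ≤ r) (hr' : r₀ ≤ r') {pq pq' : ℤ × ℤ}
    (hpq : pq = pq') (hz : IsZero ((E.page r hr).X pq)) : IsZero ((E.page r' hr').X pq') := by
  subst h hpq; exact hz

lemma isZero_page_succ (r : ℤ) (hr : r₀ ≤ r) (pq : ℤ × ℤ) (h : IsZero ((E.page r hr).X pq)) :
    IsZero ((E.page (r + 1) (by omega)).X pq) :=
  (ShortComplex.isZero_homology_of_isZero_X₂ ((E.page r hr).sc pq) h).of_iso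
    (E.iso r (r + 1) pq rfl hr).symm

lemma isZero_page_add (r : ℤ) (hr : r₀ ≤ r) (pq : ℤ × ℤ) (h : IsZero ((E.page r hr).X pq))
    (k : ℕ) : IsZero ((E.page (r + k) (by omega)).X pq) := by
  induction k with
  | zero => exact isZero_page_congr E (by simp) hr _ rfl h
  | succ k ih =>
    exact isZero_page_congr E (by push_cast; ring) _ _ rfl (isZero_page_succ E (r + k) _ pq ih)

lemma isZero_page_of_le (r : ℤ) (hr : r₀ ≤ r) (pq : ℤ × ℤ) (h : IsZero ((E.page r hr).X pq))
    (k : ℤ) (hk : r ≤ k) : IsZero ((E.page k (hr.trans hk)).X pq) :=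
  isZero_page_congr E (by omega) _ _ rfl (isZero_page_add E r hr pq h (k - r).toNat)

/-- For a position stationary from `r`, all the pages `≥ r` are isomorphic there. -/
noncomputable def statIso (pq : ℤ × ℤ) (r : ℤ) (hst : StationaryAt E pq r) (k : ℤ) (hk : r ≤ k) :
    (E.page k (hst.1.trans hk)).X pq ≅ (E.page r hst.1).X pq :=
  E.pageXIsoOfEq pq k (r + (k - r).toNat) (by omega) (hst.1.trans hk) ≪≫
    SpSeqMor.statXIso E pq r hst (k - r).toNat

lemma isZero_grPiece (r : ℤ) (hr : r₀ ≤ r) (pq : ℤ × ℤ) (h : IsZero ((E.page r hr).X pq))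
    (H : ℤ → C) (a : SpSeq.Abutment E H) :
    IsZero (SpSeq.grPiece (a.fil (pq.1 + pq.2)) (a.anti (pq.1 + pq.2)) pq.1) := by
  refine IsZero.of_iso ?_ (a.β pq).symm
  rcases le_total r (a.rk pq) with h' | h'
  · exact isZero_page_of_le E r hr pq h _ h'
  · exact h.of_iso (statIso E pq (a.rk pq) (a.stat pq) r h').symm

theorem main8355 (r : ℤ) (hr : r₀ ≤ r) (pq : ℤ × ℤ) (h : IsZero ((E.page r hr).X pq)) :
    (∀ (k : ℤ) (hk : r ≤ k), IsZero ((E.page k (hr.trans hk)).X pq)) ∧
      ∀ (H : ℤ → C) (a : SpSeq.Abutment E H),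
        IsZero (SpSeq.grPiece (a.fil (pq.1 + pq.2)) (a.anti (pq.1 + pq.2)) pq.1) :=
  ⟨fun k hk => isZero_page_of_le E r hr pq h k hk, fun H a => isZero_grPiece E r hr pq h H a⟩

variable {E} {H : ℤ → C} (a : SpSeq.Abutment E H)

/-- The graded piece `gr^p H^n`, up to `p + q = n`. -/
lemma isZero_grPiece' (r : ℤ) (hr : r₀ ≤ r) (n p q : ℤ) (hn : p + q = n)
    (h : IsZero ((E.page r hr).X (p, q))) :
    IsZero (SpSeq.grPiece (a.fil n) (a.anti n) p) := by
  subst hn
  exact isZero_grPiece E r hr (p, q) h H a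

/-- The graded piece is the stationary value. -/
noncomputable def grIso' (r : ℤ) (n p q : ℤ) (hn : p + q = n) (hst : StationaryAt E (p, q) r) :
    SpSeq.grPiece (a.fil n) (a.anti n) p ≅ (E.page r hst.1).X (p, q) := by
  subst hn
  refine (a.β (p, q)).symm ≪≫ ?_
  exact (statIso E (p, q) (a.rk (p, q)) (a.stat (p, q)) (max r (a.rk (p, q))) (le_max_right _ _)).symm ≪≫
    statIso E (p, q) r hst (max r (a.rk (p, q))) (le_max_left _ _)

end

section Fil

variable {X : C} (F : ℤ → Subobject X) (hF : Antitone F)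

lemma le_succ_of_isZero (p : ℤ) (h : IsZero (grPiece F hF p)) : F p ≤ F (p + 1) :=
  (isZero_subquot_iff _ _ _).1 h

lemma le_of_isZero (p : ℤ) (k : ℕ) (h : ∀ i : ℤ, p ≤ i → i < p + k → IsZero (grPiece F hF i)) :
    F p ≤ F (p + k) := by
  induction k with
  | zero => simp
  | succ k ih =>
    refine (ih fun i hi hi' => h i hi (by push_cast; omega)).trans ?_
    have := le_succ_of_isZero F hF (p + k) (h _ (by omega) (by push_cast; omega))
    convert this using 2
    push_cast; ring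

lemma le_of_isZero' {p q : ℤ} (hpq : p ≤ q)
    (h : ∀ i : ℤ, p ≤ i → i < q → IsZero (grPiece F hF i)) : F p ≤ F q := by
  have := le_of_isZero F hF p (q - p).toNat (fun i hi hi' => h i hi (by omega))
  convert this using 2
  omega

/-- If all graded pieces from `p` on vanish, and the filtration is discrete, then `F p = ⊥`. -/
lemma eq_bot_of_isZero (p : ℤ) (hd : ∃ b, F b = ⊥)
    (h : ∀ i : ℤ, p ≤ i → IsZero (grPiece F hF i)) : F p = ⊥ := by
  obtain ⟨b, hb⟩ := hd
  rcases le_total p b with h' | h'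
  · exact le_antisymm ((le_of_isZero' F hF h' fun i hi _ => h i hi).trans hb.le) bot_le
  · exact le_antisymm ((hF h').trans hb.le) bot_le

/-- If all graded pieces below `p` vanish, and the filtration is exhaustive, then `F p = ⊤`. -/
lemma eq_top_of_isZero (p : ℤ) (hd : IsLUB (Set.range F) ⊤)
    (h : ∀ i : ℤ, i < p → IsZero (grPiece F hF i)) : F p = ⊤ := by
  refine le_antisymm le_top (hd.2 ?_)
  rintro _ ⟨i, rfl⟩
  rcases le_total p i with h' | h'
  · exact hF h'
  · exact le_of_isZero' F hF h' fun j _ hj => h j hj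

end Fil

theorem main8347 (E : CohomologicalSpectralSequence C r₀) {H : ℤ → C} (a : SpSeq.Abutment E H)
    (r : ℤ) (hr : r₀ ≤ r) (q : ℤ → ℤ)
    (hdeg : ∀ m q' : ℤ, q' ≠ q m → IsZero ((E.page r hr).X (m - q', q')))
    (n : ℤ) (hdisc : (a.filObj n).IsDiscrete) (hexh : a.IsExhaustive n)
    (hst : SpSeq.StationaryAt E (n - q n, q n) r) :
    Nonempty (H n ≅ (E.page r hr).X (n - q n, q n)) := by
  have h0 : ∀ i : ℤ, i ≠ n - q n → IsZero (grPiece (a.fil n) (a.anti n) i) := by
    intro i hi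
    refine isZero_grPiece' a r hr n i (n - i) (by ring) ?_
    exact isZero_page_congr E rfl _ _ (by ext <;> simp) (hdeg n (n - i) (by omega))
  have hb := eq_bot_of_isZero (a.fil n) (a.anti n) (n - q n + 1) hdisc
    (fun i hi => h0 i (by omega))
  have ht := eq_top_of_isZero (a.fil n) (a.anti n) (n - q n) hexh (fun i hi => h0 i (by omega))
  exact ⟨(topBotIso _ _ ((a.anti n) (Int.le_add_one le_rfl)) ht hb).symm ≪≫
    grIso' a r n (n - q n) (q n) (by ring) hst⟩

section Deg

lemma mono_hom (E E' : E₂CohomologicalSpectralSequence C) (φ : E ⟶ E')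
    (hd' : ∀ (r : ℤ) (hr : 2 ≤ r) (pq : ℤ × ℤ), pq.1 ≠ 0 →
      (E'.page r hr).d pq (pq + (r, 1 - r)) = 0)
    (hmono : ∀ pq : ℤ × ℤ, Mono ((φ.hom 2 le_rfl).f pq)) (k : ℕ) :
    ∀ (r : ℤ) (hr : 2 ≤ r), r = 2 + k → ∀ pq : ℤ × ℤ, r ≤ pq.1 → Mono ((φ.hom r hr).f pq) := by
  induction k with
  | zero =>
    intro r hr e pq _
    obtain rfl : r = 2 := by simpa using e
    exact hmono pq
  | succ k ih =>
    intro r hr e pq hpq
    obtain ⟨s, rfl⟩ : ∃ s, r = s + 1 := ⟨r - 1, by omega⟩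
    have hs : (2 : ℤ) ≤ s := by push_cast at e; omega
    haveI := ih s hs (by push_cast at e; omega) pq (by omega)
    have hin : (E'.page s hs).d (pq - (s, 1 - s)) pq = 0 := by
      have := hd' s hs (pq - (s, 1 - s)) (by simp; omega)
      rwa [sub_add_cancel] at this
    haveI : Mono (HomologicalComplex.homologyMap (φ.hom s hs) pq) := by
      rw [HomologicalComplex.mono_homologyMap_iff_up_to_refinements _ (pq - (s, 1 - s)) pq
        (pq + (s, 1 - s)) ((ComplexShape.up' ((s, 1 - s) : ℤ × ℤ)).prev_eq' (by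
          change pq - (s, 1 - s) + (s, 1 - s) = pq; abel))
        ((ComplexShape.up' ((s, 1 - s) : ℤ × ℤ)).next_eq' rfl)]
      intro T x hx y e
      rw [hin, comp_zero] at e
      refine ⟨T, 𝟙 _, inferInstance, 0, ?_⟩
      rw [Category.id_comp, zero_comp]
      exact (cancel_mono _).1 (by rw [e, zero_comp])
    have := φ.comm s (s + 1) pq rfl hs
    have e2 : (φ.hom (s + 1) hr).f pq = (E.iso s (s + 1) pq rfl hs).inv ≫
        HomologicalComplex.homologyMap (φ.hom s hs) pq ≫ (E'.iso s (s + 1) pq rfl hs).hom := by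
      rw [this, Iso.inv_hom_id_assoc]
    rw [e2]
    infer_instance

theorem main19323 (E E' : E₂CohomologicalSpectralSequence C) (φ : E ⟶ E')
    (hE : ∀ pq : ℤ × ℤ, pq.1 < 0 ∨ pq.2 < 0 → IsZero ((E.page 2 le_rfl).X pq))
    (hd' : ∀ (r : ℤ) (hr : 2 ≤ r) (pq : ℤ × ℤ), pq.1 ≠ 0 →
      (E'.page r hr).d pq (pq + (r, 1 - r)) = 0)
    (hφd : ∀ (r : ℤ) (hr : 2 ≤ r) (pq : ℤ × ℤ),
      (φ.hom r hr).f pq ≫ (E'.page r hr).d pq (pq + (r, 1 - r)) = 0)
    (hmono : ∀ pq : ℤ × ℤ, Mono ((φ.hom 2 le_rfl).f pq)) :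
    SpSeq.Degenerates E 2 := by
  refine ⟨le_rfl, fun r hr _ pq pq' => ?_⟩
  by_cases hrel : pq + (r, 1 - r) = pq'
  · subst hrel
    by_cases hneg : pq.1 < 0
    · exact (isZero_page_of_le E 2 le_rfl pq (hE pq (Or.inl hneg)) r hr).eq_of_src _ _
    · haveI := mono_hom E E' φ hd' hmono (r - 2).toNat r hr (by omega) (pq + (r, 1 - r))
        (by simp; omega)
      rw [← cancel_mono ((φ.hom r hr).f (pq + (r, 1 - r))), ← HomologicalComplex.Hom.comm, hφd,
        zero_comp]
  · exact (E.page r hr).shape _ _ hrel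

end Deg

end K988.Abs
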