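import Groth.Agent.SpSeq.K988.FilCxEl
import Mathlib.Order.Interval.Finset.Defs
import Mathlib.Data.Int.Interval

/-!
# Convergence criteria for the spectral sequence of a filtered complex
-/

set_option autoImplicit false
set_option linter.style.haveILetI false
set_option linter.unusedSectionVars false
set_option linter.unusedVariables false

universe v u

open CategoryTheory CategoryTheory.Limits

namespace K988.Conv

open SpSeq SpSeq.FilCx K988.SubRef K988.SubQ K988.FilCxEl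

variable {A : Type u} [Category.{v} A] [Abelian A]

section FilObj

variable (K : FilObj A)

lemma isSeparated_of_isDiscrete (h : K.IsDiscrete) : K.IsSeparated := by
  obtain ⟨b, hb⟩ := h
  exact ⟨fun x _ => bot_le, fun x hx => hb ▸ hx ⟨b, rfl⟩⟩

lemma isExhaustive_of_isCodiscrete (h : K.IsCodiscrete) : K.IsExhaustive := by
  obtain ⟨a, ha⟩ := h
  exact ⟨fun x _ => le_top, fun x hx => ha ▸ hx ⟨a, rfl⟩⟩

lemma π_quotMap {p q : ℤ} (h : p ≤ q) :
    cokernel.π (K.fil q).arrow ≫ K.quotMap h = cokernel.π (K.fil p).arrow :=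
  cokernel.π_desc _ _ _

lemma isIso_π_of_eq_bot {p : ℤ} (h : K.fil p = ⊥) : IsIso (cokernel.π (K.fil p).arrow) := by
  have h0 : (K.fil p).arrow = 0 := by
    rw [← factors_bot_iff, ← h]
    exact Subobject.factors_self _
  haveI : Mono (cokernel.π (K.fil p).arrow) := by
    refine Preadditive.mono_of_cancel_zero _ fun {T} x hx => ?_
    rw [← factors_iff_comp_cokernel, h, factors_bot_iff] at hx
    exact hx
  exact isIso_of_mono_of_epi _

lemma isComplete_of_isDiscrete (h : K.IsDiscrete) : K.IsComplete := by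
  obtain ⟨b, hb⟩ := h
  intro T f hf
  haveI := isIso_π_of_eq_bot K hb
  refine ⟨f b ≫ inv (cokernel.π (K.fil b).arrow), fun p => ?_⟩
  rcases le_total p b with h | h
  · have e : inv (cokernel.π (K.fil b).arrow) ≫ cokernel.π (K.fil p).arrow = K.quotMap h :=
      (IsIso.inv_comp_eq _).2 (π_quotMap K h).symm
    rw [← hf p b h, Category.assoc, e]
  · have hp : K.fil p = ⊥ := le_antisymm (hb ▸ K.anti h) bot_le
    haveI := isIso_π_of_eq_bot K hp
    have e := π_quotMap K h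
    haveI : IsIso (K.quotMap h) := by
      have : K.quotMap h = inv (cokernel.π (K.fil p).arrow) ≫ cokernel.π (K.fil b).arrow := by
        rw [IsIso.eq_inv_comp, e]
      rw [this]; infer_instance
    rw [← cancel_mono (K.quotMap h), hf b p h, Category.assoc, Category.assoc, e,
      IsIso.inv_hom_id, Category.comp_id]

end FilObj

variable (K : FilCx A)
  (h0 : ∀ n : ℤ, ∃ p₀ : ℤ, ∀ p : ℤ, p₀ ≤ p → IsZero ((K.fil p : CochainComplex A ℤ).homology n))
  (h1 : ∀ n : ℤ, ∃ p₁ : ℤ, ∀ p : ℤ, p ≤ p₁ → IsIso (HomologicalComplex.homologyMap (K.fil p).arrow n))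

include h0 in
/-- the `ZSub` are eventually `ZTop` -/
lemma exists_zSub_eq (p n : ℤ) : ∃ r₀ : ℕ, ∀ r, r₀ ≤ r → K.ZSub r p n = K.ZTop p n := by
  obtain ⟨p₀, hp₀⟩ := h0 (n + 1)
  refine ⟨(p₀ - p).toNat + 1, fun r hr => le_antisymm ?_ (zTop_le_zSub K r p n)⟩
  rw [le_iff]
  intro T x
  rw [zTop_iff K p n _ rfl, zSub_iff K r p n _ _ rfl rfl]
  rintro ⟨T', π, hπ, a, b, ha, ha', hb, e⟩
  obtain ⟨T₁, π₁, hπ₁, y, hy, e₁⟩ := exists_of_isZero K rfl rfl (hp₀ (p + r) (by omega)) _ ha' (by simp)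
  refine ⟨T₁, π₁ ≫ π, inferInstance, π₁ ≫ a - y, π₁ ≫ b + y, ?_, ?_, ?_, ?_⟩
  · exact factors_sub _ (factors_precomp _ _ ha) (filX_mono K (by omega) hy)
  · rw [Preadditive.sub_comp, Category.assoc, e₁, sub_self]
  · exact factors_add _ (factors_precomp _ _ hb) (filX_mono K (by omega) hy)
  · rw [Category.assoc, e, Preadditive.comp_add]; abel

include h1 in
/-- the `BSub` are eventually `BBot` -/
lemma exists_bSub_eq (p m : ℤ) : ∃ r₀ : ℕ, ∀ r, r₀ ≤ r → K.BSub r p m = K.BBot p m := by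
  obtain ⟨p₁, hp₁⟩ := h1 m
  refine ⟨(p - p₁).toNat + 1, fun r hr => le_antisymm (bSub_le_bBot K r p m) ?_⟩
  rw [le_iff]
  intro T x
  obtain ⟨n, h⟩ : ∃ n, n + 1 = m := ⟨m - 1, by omega⟩
  rw [bBot_iff K p n m h, bSub_iff K r p n m _ h rfl]
  rintro ⟨T', π, hπ, y, b, hy, hb, e⟩
  haveI := hp₁ (p - r + 1) (by omega)
  obtain ⟨T₁, π₁, hπ₁, z, hz, e₁⟩ := exists_of_mono K h rfl
    (p := p - r + 1) inferInstance y (filX_mono K (by omega) hy)
  refine ⟨T₁, π₁ ≫ π, inferInstance, z, π₁ ≫ b, hz, ?_, factors_precomp _ _ hb, ?_⟩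
  · rw [← e₁]; exact factors_precomp _ _ hy
  · rw [Category.assoc, e, Preadditive.comp_add, e₁]

include h0 in
lemma isRegular : K.IsRegular := fun p n => by
  obtain ⟨r₀, h⟩ := exists_zSub_eq K h0 p n
  exact ⟨r₀, fun r hr => by rw [h r hr, h r₀ le_rfl]⟩

include h0 h1 in
lemma weaklyConverges : K.WeaklyConverges := by
  intro p n
  obtain ⟨r₀, h⟩ := exists_zSub_eq K h0 p n
  obtain ⟨r₁, h'⟩ := exists_bSub_eq K h1 p n
  refine ⟨⟨?_, ?_⟩, ⟨?_, ?_⟩⟩
  · rintro _ ⟨r, rfl⟩; exact zTop_le_zSub K r p n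
  · intro S hS; exact (hS ⟨r₀, rfl⟩).trans (h r₀ le_rfl).le
  · rintro _ ⟨r, rfl⟩; exact bSub_le_bBot K r p n
  · intro S hS; exact (h' r₁ le_rfl).ge.trans (hS ⟨r₁, rfl⟩)

include h0 in
lemma isDiscrete_HFil (n : ℤ) : (K.HFil n).IsDiscrete := by
  obtain ⟨p₀, hp₀⟩ := h0 n
  refine ⟨p₀, ?_⟩
  change K.filH p₀ n = ⊥
  rw [eq_iff]
  intro T x
  unfold filH
  rw [factors_image_iff, factors_bot_iff]
  constructor
  · rintro ⟨T', π, hπ, y, e⟩
    rw [(hp₀ p₀ le_rfl).eq_of_tgt y 0, zero_comp] at e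
    exact (cancel_epi π).1 (by rw [e, comp_zero])
  · rintro rfl
    exact ⟨T, 𝟙 _, inferInstance, 0, by simp⟩

include h1 in
lemma isCodiscrete_HFil (n : ℤ) : (K.HFil n).IsCodiscrete := by
  obtain ⟨p₁, hp₁⟩ := h1 n
  refine ⟨p₁, ?_⟩
  change K.filH p₁ n = ⊤
  haveI := hp₁ p₁ le_rfl
  rw [eq_iff]
  intro T x
  refine ⟨fun _ => factors_top _, fun _ => ?_⟩
  unfold filH
  rw [factors_image_iff]
  exact surjective_up_to_refinements_of_epi _ x

include h0 h1 in
lemma isFinite_HFil (n : ℤ) : (K.HFil n).IsFinite :=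
  ⟨isCodiscrete_HFil K h1 n, isDiscrete_HFil K h0 n⟩

include h0 h1 in
lemma converges : K.Converges :=
  ⟨isRegular K h0, ⟨weaklyConverges K h0 h1, fun n =>
    ⟨isSeparated_of_isDiscrete _ (isDiscrete_HFil K h0 n),
      isExhaustive_of_isCodiscrete _ (isCodiscrete_HFil K h1 n)⟩⟩,
    fun n => isComplete_of_isDiscrete _ (isDiscrete_HFil K h0 n)⟩

include h0 h1 in
lemma isBounded_one : K.IsBounded 1 := by
  intro n
  obtain ⟨a, ha⟩ := h0 n
  obtain ⟨a', ha'⟩ := h0 (n + 1)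
  obtain ⟨b, hb⟩ := h1 n
  obtain ⟨b', hb'⟩ := h1 (n + 1)
  obtain ⟨k, hk⟩ : ∃ k, k + 1 = n := ⟨n - 1, by omega⟩
  refine (Set.finite_Icc (min b b' - 1) (max a a')).subset ?_
  intro p hp
  rw [Set.mem_Icc]
  by_contra hcon
  apply hp
  unfold E
  rw [isZero_subquot_iff, le_iff]
  intro T x
  rw [zSub_iff K 1 p n _ _ rfl rfl, bSub_iff K 1 p k n _ hk rfl]
  rintro ⟨T', π, hπ, x₁, c, hx₁, hx₁', hc, e⟩
  rw [not_and_or, not_le, not_le] at hcon
  rcases hcon with hcon | hcon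
  · -- `p` small
    haveI := hb p (by omega)
    haveI := hb (p + 1) (by omega)
    haveI := hb' (p + 1) (by omega)
    obtain ⟨T₁, π₁, hπ₁, y, hy, e₁⟩ := exists_of_mono K (n := n) rfl rfl
      (p := p + 1) inferInstance x₁ (by exact_mod_cast hx₁')
    obtain ⟨T₂, π₂, hπ₂, d, z, hd, hd', e₂⟩ := exists_of_epi K hk rfl
      (p := p + 1) inferInstance (π₁ ≫ x₁ - y) (by
        rw [Preadditive.sub_comp, Category.assoc, e₁, sub_self])
    have hz : (K.filX p n).Factors (z ≫ K.obj.d k n) := by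
      have : z ≫ K.obj.d k n = π₂ ≫ (π₁ ≫ x₁ - y) - d := by rw [e₂, add_sub_cancel_left]
      rw [this]
      exact factors_sub _ (factors_precomp _ _ (factors_sub _ (factors_precomp _ _ hx₁)
        (filX_mono K (by omega) hy))) (filX_mono K (by omega) hd)
    obtain ⟨T₃, π₃, hπ₃, z', hz', e₃⟩ := exists_of_mono K hk rfl (p := p) inferInstance z hz
    refine ⟨T₃, π₃ ≫ π₂ ≫ π₁ ≫ π, inferInstance, z', π₃ ≫ d + π₃ ≫ π₂ ≫ y + π₃ ≫ π₂ ≫ π₁ ≫ c,
      filX_mono K (by simp) hz', ?_, ?_, ?_⟩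
    · exact filX_d K _ hz'
    · exact factors_add _ (factors_add _ (factors_precomp _ _ hd)
        (factors_precomp _ _ (factors_precomp _ _ hy)))
          (factors_precomp _ _ (factors_precomp _ _ (factors_precomp _ _ hc)))
    · rw [← e₃]
      have : π₂ ≫ π₁ ≫ x₁ = d + z ≫ K.obj.d k n + π₂ ≫ y := by
        rw [← e₂, Preadditive.comp_sub, sub_add_cancel]
      simp only [Category.assoc, e, Preadditive.comp_add, this]
      abel
  · -- `p` large
    obtain ⟨T₁, π₁, hπ₁, y, hy, e₁⟩ := exists_of_isZero K (n := n) rfl rfl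
      (p := p + 1) (ha' _ (by omega)) (x₁ ≫ K.obj.d n (n + 1)) (by exact_mod_cast hx₁') (by simp)
    obtain ⟨T₂, π₂, hπ₂, z, hz, e₂⟩ := exists_of_isZero K hk rfl
      (p := p) (ha p (by omega)) (π₁ ≫ x₁ - y)
      (factors_sub _ (factors_precomp _ _ hx₁) (filX_mono K (by omega) hy)) (by
        rw [Preadditive.sub_comp, Category.assoc, e₁, sub_self])
    refine ⟨T₂, π₂ ≫ π₁ ≫ π, inferInstance, z, π₂ ≫ y + π₂ ≫ π₁ ≫ c,
      filX_mono K (by simp) hz, filX_d K _ hz, ?_, ?_⟩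
    · exact factors_add _ (factors_precomp _ _ hy) (factors_precomp _ _ (factors_precomp _ _ hc))
    · rw [← e₂]
      simp only [Category.assoc, e, Preadditive.comp_add, Preadditive.comp_sub]
      abel

include h0 h1 in
theorem main94 : K.IsBounded 1 ∧ (∀ n : ℤ, (K.HFil n).IsFinite) ∧ K.Converges :=
  ⟨isBounded_one K h0 h1, isFinite_HFil K h0 h1, converges K h0 h1⟩

section Finite

variable (hK : ∀ n : ℤ, (K.XFil n).IsFinite)

include hK in
lemma exists_bot (n : ℤ) : ∃ b : ℤ, ∀ p : ℤ, b ≤ p → K.filX p n = ⊥ := by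
  obtain ⟨b, hb⟩ := (hK n).2
  exact ⟨b, fun p hp => le_antisymm ((K.filX_anti n hp).trans hb.le) bot_le⟩

include hK in
lemma exists_top (n : ℤ) : ∃ a : ℤ, ∀ p : ℤ, p ≤ a → K.filX p n = ⊤ := by
  obtain ⟨a, ha⟩ := (hK n).1
  exact ⟨a, fun p hp => le_antisymm le_top (ha.ge.trans (K.filX_anti n hp))⟩

lemma isZero_X_of_bot {p n : ℤ} (h : K.filX p n = ⊥) :
    IsZero ((K.fil p : CochainComplex A ℤ).X n) := by
  rw [IsZero.iff_id_eq_zero, ← cancel_mono ((K.fil p).arrow.f n), zero_comp, Category.id_comp]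
  rw [← factors_bot_iff, ← h, filX_factors_iff]
  exact ⟨𝟙 _, Category.id_comp _⟩

lemma isIso_of_top {p n : ℤ} (h : K.filX p n = ⊤) : IsIso ((K.fil p).arrow.f n) := by
  haveI : Epi ((K.fil p).arrow.f n) := by
    have h1 : (K.filX p n).Factors (𝟙 _) := h ▸ factors_top _
    rw [filX_factors_iff] at h1
    obtain ⟨y, hy⟩ := h1
    exact (SplitEpi.mk y hy).epi
  exact isIso_of_mono_of_epi _

include hK in
lemma h0_of_finite : ∀ n : ℤ, ∃ p₀ : ℤ, ∀ p : ℤ, p₀ ≤ p →
    IsZero ((K.fil p : CochainComplex A ℤ).homology n) := by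
  intro n
  obtain ⟨b, hb⟩ := exists_bot K hK n
  refine ⟨b, fun p hp => ?_⟩
  have := isZero_X_of_bot K (hb p hp)
  exact ShortComplex.isZero_homology_of_isZero_X₂ _ this

include hK in
lemma h1_of_finite : ∀ n : ℤ, ∃ p₁ : ℤ, ∀ p : ℤ, p ≤ p₁ →
    IsIso (HomologicalComplex.homologyMap (K.fil p).arrow n) := by
  intro n
  obtain ⟨a, ha⟩ := exists_top K hK n
  obtain ⟨a', ha'⟩ := exists_top K hK (n - 1)
  obtain ⟨a'', ha''⟩ := exists_top K hK (n + 1)
  refine ⟨min a (min a' a''), fun p hp => ?_⟩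
  haveI := isIso_of_top K (ha p (by omega))
  haveI := isIso_of_top K (ha' p (by omega))
  haveI := isIso_of_top K (ha'' p (by omega))
  haveI : Mono (HomologicalComplex.homologyMap (K.fil p).arrow n) := by
    rw [HomologicalComplex.mono_homologyMap_iff_up_to_refinements _ (n - 1) n (n + 1)
      (prev_eq (by omega)) (next_eq rfl)]
    intro T x hx y e
    refine ⟨T, 𝟙 _, inferInstance, y ≫ inv ((K.fil p).arrow.f (n - 1)), ?_⟩
    rw [← cancel_mono ((K.fil p).arrow.f n), Category.id_comp, e, Category.assoc, Category.assoc,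
      ← HomologicalComplex.Hom.comm, IsIso.inv_hom_id_assoc]
  haveI : Epi (HomologicalComplex.homologyMap (K.fil p).arrow n) := by
    rw [HomologicalComplex.epi_homologyMap_iff_up_to_refinements _ (n - 1) n (n + 1)
      (prev_eq (by omega)) (next_eq rfl)]
    intro T x hx
    refine ⟨T, 𝟙 _, inferInstance, x ≫ inv ((K.fil p).arrow.f n), ?_, 0, ?_⟩
    · rw [← cancel_mono ((K.fil p).arrow.f (n + 1)), Category.assoc, Category.assoc,
        ← HomologicalComplex.Hom.comm, IsIso.inv_hom_id_assoc, hx, zero_comp]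
    · simp
  exact isIso_of_mono_of_epi _

include hK in
lemma isBounded_of_finite (r : ℕ) : K.IsBounded r := by
  intro n
  obtain ⟨a, ha⟩ := exists_top K hK n
  obtain ⟨b, hb⟩ := exists_bot K hK n
  refine (Set.finite_Icc (a - 1) b).subset ?_
  intro p hp
  rw [Set.mem_Icc]
  by_contra hcon
  apply hp
  unfold E
  rw [isZero_subquot_iff]
  rw [not_and_or, not_le, not_le] at hcon
  rcases hcon with hcon | hcon
  · refine le_top.trans ?_
    unfold BSub
    exact (ha (p + 1) (by omega)).ge.trans le_sup_right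
  · refine le_trans ?_ bot_le
    unfold ZSub
    exact sup_le (inf_le_left.trans (hb p (by omega)).le) (hb (p + 1) (by omega)).le

theorem main92 (hK : ∀ n : ℤ, (K.XFil n).IsFinite) :
    K.IsBounded 0 ∧ (∀ n : ℤ, (K.HFil n).IsFinite) ∧ K.Converges :=
  ⟨isBounded_of_finite K hK 0, isFinite_HFil K (h0_of_finite K hK) (h1_of_finite K hK),
    converges K (h0_of_finite K hK) (h1_of_finite K hK)⟩

end Finite

end K988.Conv
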