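import Groth.Agent.SpSeq.K988.SubRef
import Mathlib.CategoryTheory.Limits.Shapes.Pullback.IsPullback.Basic
import Mathlib.CategoryTheory.Abelian.CommSq

/-!
# Strict morphisms of filtered objects, pushouts and pullbacks of filtered objects
-/

set_option autoImplicit false
set_option linter.style.haveILetI false
set_option linter.unusedSectionVars false
set_option linter.unusedVariables false

universe v u

open CategoryTheory CategoryTheory.Limits

namespace K988.FilStrict

open SpSeq SpSeq.FilObj K988.SubRef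

variable {A : Type u} [Category.{v} A] [Abelian A] {K L M : FilObj A}

lemma factors_hom (f : K ⟶ L) (p : ℤ) {T : A} {x : T ⟶ K.obj} (h : (K.fil p).Factors x) :
    (L.fil p).Factors (x ≫ f.hom) :=
  (factors_pullback_iff _ _ _).1 ((le_iff _ _).1 (f.compat p) T x h)

@[simp] lemma comp_hom (f : K ⟶ L) (g : L ⟶ M) : (f ≫ g).hom = f.hom ≫ g.hom := rfl

@[simp] lemma id_hom (K : FilObj A) : (𝟙 K : K ⟶ K).hom = 𝟙 K.obj := rfl

lemma hom_ext' {f g : K ⟶ L} (h : f.hom = g.hom) : f = g := FilObj.Hom.ext h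

/-- Build a morphism of filtered objects from the elementwise condition. -/
def mkHom (f : K.obj ⟶ L.obj)
    (h : ∀ (p : ℤ) (T : A) (x : T ⟶ K.obj), (K.fil p).Factors x → (L.fil p).Factors (x ≫ f)) :
    K ⟶ L :=
  (⟨f, fun p => (le_iff _ _).2 fun T x hx => (factors_pullback_iff _ _ _).2 (h p T x hx)⟩ :
    FilObj.Hom K L)

@[simp] lemma mkHom_hom (f : K.obj ⟶ L.obj)
    (h : ∀ (p : ℤ) (T : A) (x : T ⟶ K.obj), (K.fil p).Factors x → (L.fil p).Factors (x ≫ f)) :
    (mkHom f h).hom = f := rfl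

lemma isStrict_iff (f : K ⟶ L) : IsStrict f ↔ ∀ (p : ℤ) (T : A) (x : T ⟶ K.obj),
    (L.fil p).Factors (x ≫ f.hom) → ∃ (T' : A) (π : T' ⟶ T) (_ : Epi π) (y : T' ⟶ K.obj),
      (K.fil p).Factors y ∧ π ≫ x ≫ f.hom = y ≫ f.hom := by
  constructor
  · intro h p T x hx
    have h1 : (imageSubobject f.hom ⊓ L.fil p).Factors (x ≫ f.hom) :=
      (factors_inf_iff _ _ _).2 ⟨imageSubobject_factors_comp_self _ _, hx⟩
    rw [← h p, factors_image_arrow_iff] at h1
    exact h1
  · intro h p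
    rw [eq_iff]
    intro T z
    rw [factors_image_arrow_iff, factors_inf_iff, factors_image_iff]
    constructor
    · rintro ⟨T', π, hπ, y, hy, e⟩
      exact ⟨⟨T', π, hπ, y, e⟩, factors_of_epi _ π (e ▸ factors_hom f p hy)⟩
    · rintro ⟨⟨T', π, hπ, y, e⟩, hz⟩
      obtain ⟨T'', π', hπ', y', hy', e'⟩ := h p T' y (e ▸ factors_precomp _ π hz)
      refine ⟨T'', π' ≫ π, inferInstance, y', hy', ?_⟩
      rw [Category.assoc, e, e']

theorem isStrict_comp_of_mono (f : K ⟶ L) (g : L ⟶ M) (hf : IsStrict f) (hg : IsStrict g)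
    [Mono g.hom] : IsStrict (f ≫ g) := by
  rw [isStrict_iff] at hf hg ⊢
  intro p T x hx
  obtain ⟨T', π, hπ, y, hy, e⟩ := hg p T (x ≫ f.hom) (by rw [Category.assoc]; exact hx)
  have e2 : π ≫ x ≫ f.hom = y := by
    rw [← cancel_mono g.hom, ← e]; simp only [Category.assoc]
  obtain ⟨T'', π', hπ', y', hy', e'⟩ := hf p T' (π ≫ x) (by rw [Category.assoc, e2]; exact hy)
  refine ⟨T'', π' ≫ π, inferInstance, y', hy', ?_⟩
  simp only [comp_hom, Category.assoc] at e' ⊢
  rw [reassoc_of% e']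

theorem isStrict_comp_of_epi (f : K ⟶ L) (g : L ⟶ M) (hf : IsStrict f) (hg : IsStrict g)
    [Epi f.hom] : IsStrict (f ≫ g) := by
  rw [isStrict_iff] at hf hg ⊢
  intro p T x hx
  obtain ⟨T', π, hπ, y, hy, e⟩ := hg p T (x ≫ f.hom) (by rw [Category.assoc]; exact hx)
  obtain ⟨T'', π', hπ', z, hz⟩ := surjective_up_to_refinements_of_epi f.hom y
  obtain ⟨T₃, π'', hπ'', w, hw, e'⟩ := hf p T'' z (by rw [← hz]; exact factors_precomp _ _ hy)
  refine ⟨T₃, π'' ≫ π' ≫ π, inferInstance, w, hw, ?_⟩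
  simp only [comp_hom, Category.assoc] at e e' ⊢
  rw [e, reassoc_of% hz, reassoc_of% e']

lemma isStrict_of_iso (e : K ≅ L) : IsStrict e.hom := by
  rw [isStrict_iff]
  intro p T x hx
  refine ⟨T, 𝟙 T, inferInstance, x, ?_, by simp⟩
  have := factors_hom e.inv p hx
  rwa [Category.assoc, ← comp_hom, e.hom_inv_id, id_hom, Category.comp_id] at this

lemma mono_hom_of_iso (e : K ≅ L) : IsIso e.hom.hom :=
  ⟨e.inv.hom, by rw [← comp_hom, e.hom_inv_id, id_hom], by rw [← comp_hom, e.inv_hom_id, id_hom]⟩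

lemma isStrict_comp_iso (f : K ⟶ L) (e : L ≅ M) (hf : IsStrict f) : IsStrict (f ≫ e.hom) := by
  haveI := mono_hom_of_iso e
  exact isStrict_comp_of_mono f e.hom hf (isStrict_of_iso e)

lemma isStrict_iso_comp (e : K ≅ L) (f : L ⟶ M) (hf : IsStrict f) : IsStrict (e.hom ≫ f) := by
  haveI := mono_hom_of_iso e
  exact isStrict_comp_of_epi e.hom f (isStrict_of_iso e) hf

/-- Exactness of a pushout square, elementwise. -/
lemma exists_of_isPushout {X₁ X₂ X₃ X₄ : A} {f : X₁ ⟶ X₂} {g : X₁ ⟶ X₃} {inl : X₂ ⟶ X₄}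
    {inr : X₃ ⟶ X₄} (h : IsPushout f g inl inr) {T : A} (a : T ⟶ X₂) (b : T ⟶ X₃)
    (e : a ≫ inl = b ≫ inr) : ∃ (T' : A) (π : T' ⟶ T) (_ : Epi π) (k : T' ⟶ X₁),
      π ≫ a = k ≫ f ∧ π ≫ b = k ≫ g := by
  have hex := h.exact_shortComplex
  obtain ⟨T', π, hπ, k, hk⟩ := hex.exact_up_to_refinements (biprod.lift a (-b)) (by
    change biprod.lift a (-b) ≫ biprod.desc inl inr = 0
    rw [biprod.lift_desc, e, Preadditive.neg_comp, add_neg_cancel])
  change π ≫ biprod.lift a (-b) = k ≫ biprod.lift f (-g) at hk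
  have key : ∀ k : T' ⟶ X₁, π ≫ biprod.lift a (-b) = k ≫ biprod.lift f (-g) →
      π ≫ a = k ≫ f ∧ π ≫ b = k ≫ g := by
    intro k hk
    have h1 := congrArg (fun t => t ≫ biprod.fst) hk
    have h2 := congrArg (fun t => t ≫ biprod.snd) hk
    simp only [Category.assoc, biprod.lift_fst, biprod.lift_snd, Preadditive.comp_neg,
      neg_inj] at h1 h2
    exact ⟨h1, h2⟩
  exact ⟨T', π, hπ, k, key k hk⟩

section Pushout

variable {P : A} (inl : L.obj ⟶ P) (inr : M.obj ⟶ P)

/-- The sum filtration on the target of two maps. -/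
noncomputable abbrev po : FilObj A where
  obj := P
  fil p := imageSubobject ((L.fil p).arrow ≫ inl) ⊔ imageSubobject ((M.fil p).arrow ≫ inr)
  anti := by
    intro p q hpq
    refine sup_le_sup ?_ ?_
    · rw [le_iff]
      intro T x
      rw [factors_image_arrow_iff, factors_image_arrow_iff]
      rintro ⟨T', π, hπ, y, hy, e⟩
      exact ⟨T', π, hπ, y, Subobject.factors_of_le _ (L.anti hpq) hy, e⟩
    · rw [le_iff]
      intro T x
      rw [factors_image_arrow_iff, factors_image_arrow_iff]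
      rintro ⟨T', π, hπ, y, hy, e⟩
      exact ⟨T', π, hπ, y, Subobject.factors_of_le _ (M.anti hpq) hy, e⟩

lemma po_factors_iff (p : ℤ) {T : A} (x : T ⟶ P) :
    ((po inl inr).fil p).Factors x ↔ ∃ (T' : A) (π : T' ⟶ T) (_ : Epi π) (a : T' ⟶ L.obj)
      (b : T' ⟶ M.obj), (L.fil p).Factors a ∧ (M.fil p).Factors b ∧
        π ≫ x = a ≫ inl + b ≫ inr := by
  refine (factors_sup_iff _ _ _).trans ?_
  constructor
  · rintro ⟨T', π, hπ, a, b, ha, hb, e⟩
    rw [factors_image_arrow_iff] at ha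
    obtain ⟨T₁, π₁, hπ₁, y, hy, e₁⟩ := ha
    have hb' := factors_precomp _ π₁ hb
    rw [factors_image_arrow_iff] at hb'
    obtain ⟨T₂, π₂, hπ₂, z, hz, e₂⟩ := hb'
    refine ⟨T₂, π₂ ≫ π₁ ≫ π, inferInstance, π₂ ≫ y, z, factors_precomp _ _ hy, hz, ?_⟩
    simp only [Category.assoc]
    rw [e, Preadditive.comp_add, Preadditive.comp_add, e₁, e₂]
  · rintro ⟨T', π, hπ, a, b, ha, hb, e⟩
    refine ⟨T', π, hπ, a ≫ inl, b ≫ inr, ?_, ?_, e⟩
    · rw [factors_image_arrow_iff]
      exact ⟨T', 𝟙 _, inferInstance, a, ha, by simp⟩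
    · rw [factors_image_arrow_iff]
      exact ⟨T', 𝟙 _, inferInstance, b, hb, by simp⟩

noncomputable abbrev poInl : L ⟶ po inl inr := mkHom (L := po inl inr) inl (fun p T x hx => by
  rw [po_factors_iff]
  exact ⟨T, 𝟙 _, inferInstance, x, 0, hx, factors_zero _, by simp⟩)

noncomputable abbrev poInr : M ⟶ po inl inr := mkHom (L := po inl inr) inr (fun p T x hx => by
  rw [po_factors_iff]
  exact ⟨T, 𝟙 _, inferInstance, 0, x, factors_zero _, hx, by simp⟩)

variable (f : K ⟶ L) (g : K ⟶ M) {inl inr} (h : IsPushout f.hom g.hom inl inr)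

include h in
lemma po_isPushout : IsPushout f g (poInl inl inr) (poInr inl inr) where
  w := hom_ext' h.w
  isColimit' := ⟨by
    refine PushoutCocone.IsColimit.mk (hom_ext' h.w) (fun s => mkHom (K := po inl inr)
      (h.desc s.inl.hom s.inr.hom (congrArg FilObj.Hom.hom s.condition)) ?_)
      (fun s => hom_ext' ?_) (fun s => hom_ext' ?_) (fun s m h1 h2 => hom_ext' ?_)
    · intro p T x hx
      rw [po_factors_iff] at hx
      obtain ⟨T', π, hπ, a, b, ha, hb, e⟩ := hx
      refine factors_of_epi _ π ?_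
      rw [reassoc_of% e, Preadditive.add_comp, Category.assoc, Category.assoc, h.inl_desc,
        h.inr_desc]
      exact factors_add _ (factors_hom s.inl p ha) (factors_hom s.inr p hb)
    · exact h.inl_desc _ _ _
    · exact h.inr_desc _ _ _
    · refine h.hom_ext ?_ ?_
      · exact (congrArg FilObj.Hom.hom h1).trans (h.inl_desc _ _ _).symm
      · exact (congrArg FilObj.Hom.hom h2).trans (h.inr_desc _ _ _).symm⟩

include h in
lemma po_isStrict_inr (hf : IsStrict f) : IsStrict (poInr inl inr) := by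
  rw [isStrict_iff] at hf ⊢
  intro p T x hx
  rw [po_factors_iff] at hx
  obtain ⟨T', π, hπ, l, m', hl, hm', e⟩ := hx
  rw [mkHom_hom] at e ⊢
  -- `x - m'` and `l` have the same image
  obtain ⟨T₁, π₁, hπ₁, k, hk1, hk2⟩ := exists_of_isPushout h l (π ≫ x - m') (by
    rw [Preadditive.sub_comp, Category.assoc, e, add_sub_cancel_right])
  obtain ⟨T₂, π₂, hπ₂, k', hk', e'⟩ := hf p T₁ k (by rw [← hk1]; exact factors_precomp _ _ hl)
  refine ⟨T₂, π₂ ≫ π₁ ≫ π, inferInstance, π₂ ≫ π₁ ≫ m' + k' ≫ g.hom, ?_, ?_⟩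
  · exact factors_add _ (factors_precomp _ _ (factors_precomp _ _ hm')) (factors_hom g p hk')
  · rw [Preadditive.add_comp, Category.assoc, Category.assoc, Category.assoc, Category.assoc, e,
      Preadditive.comp_add, Preadditive.comp_add, Category.assoc, add_comm, ← h.w,
      ← reassoc_of% e', ← reassoc_of% hk1]

end Pushout

theorem hasPushout_and (f : K ⟶ L) (g : K ⟶ M) : HasPushout f g ∧
    ∀ (P : FilObj A) (g' : L ⟶ P) (f' : M ⟶ P), IsPushout f g g' f' → IsStrict f →
      IsStrict f' := by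
  have h := IsPushout.of_hasPushout f.hom g.hom
  have h' := po_isPushout f g h
  refine ⟨h'.hasPushout, fun P g' f' hP hf => ?_⟩
  have e := IsPushout.inr_isoIsPushout_hom _ _ h' hP
  rw [← e]
  exact isStrict_comp_iso _ _ (po_isStrict_inr f g h hf)

section Pullback

variable {P : A} (fst : P ⟶ L.obj) (snd : P ⟶ M.obj)

/-- The intersection filtration on the source of two maps. -/
noncomputable abbrev pb : FilObj A where
  obj := P
  fil p := (Subobject.pullback fst).obj (L.fil p) ⊓ (Subobject.pullback snd).obj (M.fil p)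
  anti := by
    intro p q hpq
    exact inf_le_inf ((Subobject.pullback fst).map (homOfLE (L.anti hpq))).le
      ((Subobject.pullback snd).map (homOfLE (M.anti hpq))).le

lemma pb_factors_iff (p : ℤ) {T : A} (x : T ⟶ P) :
    ((pb fst snd).fil p).Factors x ↔ (L.fil p).Factors (x ≫ fst) ∧ (M.fil p).Factors (x ≫ snd) := by
  refine (factors_inf_iff _ _ _).trans ?_
  rw [factors_pullback_iff, factors_pullback_iff]

noncomputable abbrev pbFst : pb fst snd ⟶ L := mkHom (K := pb fst snd) fst (fun p T x hx =>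
  ((pb_factors_iff fst snd p x).1 hx).1)

noncomputable abbrev pbSnd : pb fst snd ⟶ M := mkHom (K := pb fst snd) snd (fun p T x hx =>
  ((pb_factors_iff fst snd p x).1 hx).2)

variable (f : L ⟶ K) (g : M ⟶ K) {fst snd} (h : IsPullback fst snd f.hom g.hom)

include h in
lemma pb_isPullback : IsPullback (pbFst fst snd) (pbSnd fst snd) f g where
  w := hom_ext' h.w
  isLimit' := ⟨by
    refine PullbackCone.IsLimit.mk (hom_ext' h.w) (fun s => mkHom (L := pb fst snd)
      (h.lift s.fst.hom s.snd.hom (congrArg FilObj.Hom.hom s.condition)) ?_)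
      (fun s => hom_ext' ?_) (fun s => hom_ext' ?_) (fun s m h1 h2 => hom_ext' ?_)
    · intro p T x hx
      rw [pb_factors_iff, Category.assoc, Category.assoc, h.lift_fst, h.lift_snd]
      exact ⟨factors_hom s.fst p hx, factors_hom s.snd p hx⟩
    · exact h.lift_fst _ _ _
    · exact h.lift_snd _ _ _
    · refine h.hom_ext ?_ ?_
      · exact (congrArg FilObj.Hom.hom h1).trans (h.lift_fst _ _ _).symm
      · exact (congrArg FilObj.Hom.hom h2).trans (h.lift_snd _ _ _).symm⟩

include h in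
lemma pb_isStrict_snd (hf : IsStrict f) : IsStrict (pbSnd fst snd) := by
  rw [isStrict_iff] at hf ⊢
  intro p T x hx
  rw [mkHom_hom] at hx ⊢
  obtain ⟨T', π, hπ, l', hl', e⟩ := hf p T (x ≫ fst) (by
    rw [Category.assoc, h.w, ← Category.assoc]; exact factors_hom g p hx)
  rw [Category.assoc, h.w] at e
  refine ⟨T', π, hπ, h.lift l' (π ≫ x ≫ snd) (by rw [← e]; simp only [Category.assoc]), ?_, ?_⟩
  · rw [pb_factors_iff, h.lift_fst, h.lift_snd]
    exact ⟨hl', factors_precomp _ _ hx⟩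
  · rw [h.lift_snd]

end Pullback

theorem hasPullback_and (f : L ⟶ K) (g : M ⟶ K) : HasPullback f g ∧
    ∀ (P : FilObj A) (g' : P ⟶ L) (f' : P ⟶ M), IsPullback g' f' f g → IsStrict f →
      IsStrict f' := by
  have h := IsPullback.of_hasPullback f.hom g.hom
  have h' := pb_isPullback f g h
  refine ⟨h'.hasPullback, fun P g' f' hP hf => ?_⟩
  have e := IsPullback.isoIsPullback_hom_snd _ _ hP h'
  rw [← e]
  exact isStrict_iso_comp _ _ (pb_isStrict_snd f g h hf)

end K988.FilStrict
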