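import Groth.Agent.SpSeq.K988.SubQ
import Mathlib.Algebra.Homology.Refinements

/-!
# Filtered complexes, elementwise
-/

set_option autoImplicit false
set_option linter.style.haveILetI false
set_option linter.unusedSectionVars false
set_option linter.unusedVariables false

universe v u

open CategoryTheory CategoryTheory.Limits

namespace K988.FilCxEl

open SpSeq SpSeq.FilCx K988.SubRef K988.SubQ

variable {A : Type u} [Category.{v} A] [Abelian A] (K : FilCx A)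

lemma filX_factors_iff (p n : ℤ) {T : A} (x : T ⟶ K.obj.X n) :
    (K.filX p n).Factors x ↔
      ∃ y : T ⟶ (K.fil p : CochainComplex A ℤ).X n, y ≫ (K.fil p).arrow.f n = x := by
  unfold filX
  rw [Subobject.mk_factors_iff]
  constructor
  · rintro ⟨y, hy⟩; exact ⟨y, hy⟩
  · rintro ⟨y, hy⟩; exact ⟨y, hy⟩

lemma filX_mono {p q : ℤ} (h : p ≤ q) {n : ℤ} {T : A} {x : T ⟶ K.obj.X n}
    (hx : (K.filX q n).Factors x) : (K.filX p n).Factors x :=
  Subobject.factors_of_le _ (K.filX_anti n h) hx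

lemma filX_d {p n : ℤ} (m : ℤ) {T : A} {x : T ⟶ K.obj.X n}
    (hx : (K.filX p n).Factors x) : (K.filX p m).Factors (x ≫ K.obj.d n m) := by
  rw [filX_factors_iff] at hx ⊢
  obtain ⟨y, rfl⟩ := hx
  exact ⟨y ≫ (K.fil p : CochainComplex A ℤ).d n m, by
    rw [Category.assoc, Category.assoc, HomologicalComplex.Hom.comm]⟩

lemma zSub_iff (r : ℕ) (p n m q : ℤ) (h : n + 1 = m) (hq : q = p + r) {T : A}
    (x : T ⟶ K.obj.X n) :
    (K.ZSub r p n).Factors x ↔ ∃ (T' : A) (π : T' ⟶ T) (_ : Epi π) (a b : T' ⟶ K.obj.X n),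
      (K.filX p n).Factors a ∧ (K.filX q m).Factors (a ≫ K.obj.d n m) ∧
        (K.filX (p + 1) n).Factors b ∧ π ≫ x = a + b := by
  subst h hq
  unfold ZSub
  rw [factors_sup_iff]
  constructor
  · rintro ⟨T', π, hπ, a, b, ha, hb, e⟩
    rw [factors_inf_iff, factors_pullback_iff] at ha
    exact ⟨T', π, hπ, a, b, ha.1, ha.2, hb, e⟩
  · rintro ⟨T', π, hπ, a, b, ha, ha', hb, e⟩
    refine ⟨T', π, hπ, a, b, ?_, hb, e⟩
    rw [factors_inf_iff, factors_pullback_iff]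
    exact ⟨ha, ha'⟩

lemma bSub_iff (r : ℕ) (p n m q : ℤ) (h : n + 1 = m) (hq : q = p - r + 1) {T : A}
    (x : T ⟶ K.obj.X m) :
    (K.BSub r p m).Factors x ↔ ∃ (T' : A) (π : T' ⟶ T) (_ : Epi π) (y : T' ⟶ K.obj.X n)
      (b : T' ⟶ K.obj.X m), (K.filX q n).Factors y ∧ (K.filX p m).Factors (y ≫ K.obj.d n m) ∧
        (K.filX (p + 1) m).Factors b ∧ π ≫ x = y ≫ K.obj.d n m + b := by
  obtain rfl : n = m - 1 := by omega
  subst hq
  unfold BSub
  rw [factors_sup_iff]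
  constructor
  · rintro ⟨T', π, hπ, a, b, ha, hb, e⟩
    rw [factors_inf_iff, factors_image_arrow_iff] at ha
    obtain ⟨ha, T₁, π₁, hπ₁, y, hy, e'⟩ := ha
    refine ⟨T₁, π₁ ≫ π, inferInstance, y, π₁ ≫ b, hy, ?_, factors_precomp _ _ hb, ?_⟩
    · rw [← e']; exact factors_precomp _ _ ha
    · rw [Category.assoc, e, Preadditive.comp_add, e']
  · rintro ⟨T', π, hπ, y, b, hy, hy', hb, e⟩
    refine ⟨T', π, hπ, y ≫ K.obj.d _ _, b, ?_, hb, e⟩
    rw [factors_inf_iff, factors_image_arrow_iff]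
    exact ⟨hy', T', 𝟙 _, inferInstance, y, hy, by simp⟩

lemma zTop_iff (p n m : ℤ) (h : n + 1 = m) {T : A} (x : T ⟶ K.obj.X n) :
    (K.ZTop p n).Factors x ↔ ∃ (T' : A) (π : T' ⟶ T) (_ : Epi π) (a b : T' ⟶ K.obj.X n),
      (K.filX p n).Factors a ∧ a ≫ K.obj.d n m = 0 ∧
        (K.filX (p + 1) n).Factors b ∧ π ≫ x = a + b := by
  subst h
  unfold ZTop
  rw [factors_sup_iff]
  constructor
  · rintro ⟨T', π, hπ, a, b, ha, hb, e⟩
    rw [factors_inf_iff, factors_kernel_iff] at ha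
    exact ⟨T', π, hπ, a, b, ha.1, ha.2, hb, e⟩
  · rintro ⟨T', π, hπ, a, b, ha, ha', hb, e⟩
    refine ⟨T', π, hπ, a, b, ?_, hb, e⟩
    rw [factors_inf_iff, factors_kernel_iff]
    exact ⟨ha, ha'⟩

lemma bBot_iff (p n m : ℤ) (h : n + 1 = m) {T : A} (x : T ⟶ K.obj.X m) :
    (K.BBot p m).Factors x ↔ ∃ (T' : A) (π : T' ⟶ T) (_ : Epi π) (y : T' ⟶ K.obj.X n)
      (b : T' ⟶ K.obj.X m), (K.filX p m).Factors (y ≫ K.obj.d n m) ∧
        (K.filX (p + 1) m).Factors b ∧ π ≫ x = y ≫ K.obj.d n m + b := by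
  obtain rfl : n = m - 1 := by omega
  unfold BBot
  rw [factors_sup_iff]
  constructor
  · rintro ⟨T', π, hπ, a, b, ha, hb, e⟩
    rw [factors_inf_iff, factors_image_iff] at ha
    obtain ⟨ha, T₁, π₁, hπ₁, y, e'⟩ := ha
    refine ⟨T₁, π₁ ≫ π, inferInstance, y, π₁ ≫ b, ?_, factors_precomp _ _ hb, ?_⟩
    · rw [← e']; exact factors_precomp _ _ ha
    · rw [Category.assoc, e, Preadditive.comp_add, e']
  · rintro ⟨T', π, hπ, y, b, hy', hb, e⟩
    refine ⟨T', π, hπ, y ≫ K.obj.d _ _, b, ?_, hb, e⟩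
    rw [factors_inf_iff, factors_image_iff]
    exact ⟨hy', T', 𝟙 _, inferInstance, y, by simp⟩

lemma prev_eq {n m : ℤ} (h : n + 1 = m) : (ComplexShape.up ℤ).prev m = n := by
  subst h; rw [CochainComplex.prev]; omega

lemma next_eq {n m : ℤ} (h : n + 1 = m) : (ComplexShape.up ℤ).next n = m := by
  subst h; rw [CochainComplex.next]

lemma filH_iff (p n m : ℤ) (h : n + 1 = m) {T : A} (x : T ⟶ K.obj.homology n) :
    (K.filH p n).Factors x ↔ ∃ (T' : A) (π : T' ⟶ T) (_ : Epi π) (c : T' ⟶ K.obj.X n)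
      (hc : c ≫ K.obj.d n m = 0), (K.filX p n).Factors c ∧
        π ≫ x = K.obj.liftCycles c m (next_eq h) hc ≫ K.obj.homologyπ n := by
  unfold filH
  rw [factors_image_iff]
  constructor
  · rintro ⟨T', π, hπ, γ, e⟩
    obtain ⟨T₁, π₁, hπ₁, z, hz, e'⟩ :=
      HomologicalComplex.eq_liftCycles_homologyπ_up_to_refinements _ γ m (next_eq h)
    refine ⟨T₁, π₁ ≫ π, inferInstance, z ≫ (K.fil p).arrow.f n, ?_, ?_, ?_⟩
    · rw [Category.assoc, HomologicalComplex.Hom.comm, reassoc_of% hz, zero_comp]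
    · rw [filX_factors_iff]; exact ⟨z, rfl⟩
    · rw [Category.assoc, e, reassoc_of% e', HomologicalComplex.homologyπ_naturality,
        HomologicalComplex.liftCycles_comp_cyclesMap_assoc]
  · rintro ⟨T', π, hπ, c, hc, hc', e⟩
    rw [filX_factors_iff] at hc'
    obtain ⟨y, rfl⟩ := hc'
    have hy : y ≫ (K.fil p : CochainComplex A ℤ).d n m = 0 := by
      rw [← cancel_mono ((K.fil p).arrow.f m), Category.assoc, ← HomologicalComplex.Hom.comm,
        ← Category.assoc, hc, zero_comp]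
    refine ⟨T', π, hπ, (K.fil p : CochainComplex A ℤ).liftCycles y m (next_eq h) hy ≫
      HomologicalComplex.homologyπ _ n, ?_⟩
    rw [e, Category.assoc, HomologicalComplex.homologyπ_naturality,
      HomologicalComplex.liftCycles_comp_cyclesMap_assoc]

/-- Vanishing of `H^m(F^p K)`, elementwise. -/
lemma exists_of_isZero {p n m l : ℤ} (h : n + 1 = m) (h' : m + 1 = l)
    (h0 : IsZero ((K.fil p : CochainComplex A ℤ).homology m)) {T : A} (x : T ⟶ K.obj.X m)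
    (hx : (K.filX p m).Factors x) (hx' : x ≫ K.obj.d m l = 0) :
    ∃ (T' : A) (π : T' ⟶ T) (_ : Epi π) (y : T' ⟶ K.obj.X n), (K.filX p n).Factors y ∧
      π ≫ x = y ≫ K.obj.d n m := by
  rw [filX_factors_iff] at hx
  obtain ⟨y, rfl⟩ := hx
  have hy : y ≫ (K.fil p : CochainComplex A ℤ).d m l = 0 := by
    rw [← cancel_mono ((K.fil p).arrow.f l), Category.assoc, ← HomologicalComplex.Hom.comm,
      ← Category.assoc, hx', zero_comp]
  rw [← HomologicalComplex.exactAt_iff_isZero_homology,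
    HomologicalComplex.exactAt_iff_exact_up_to_refinements _ n m l (prev_eq h) (next_eq h')] at h0
  obtain ⟨T', π, hπ, z, e⟩ := h0 y hy
  refine ⟨T', π, hπ, z ≫ (K.fil p).arrow.f n, (filX_factors_iff _ _ _ _).2 ⟨z, rfl⟩, ?_⟩
  rw [reassoc_of% e, Category.assoc, HomologicalComplex.Hom.comm]

/-- Injectivity of `H^m(F^p K) → H^m(K)`, elementwise. -/
lemma exists_of_mono {p n m l : ℤ} (h : n + 1 = m) (h' : m + 1 = l)
    (h0 : Mono (HomologicalComplex.homologyMap (K.fil p).arrow m)) {T : A} (y : T ⟶ K.obj.X n)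
    (hx : (K.filX p m).Factors (y ≫ K.obj.d n m)) :
    ∃ (T' : A) (π : T' ⟶ T) (_ : Epi π) (z : T' ⟶ K.obj.X n), (K.filX p n).Factors z ∧
      π ≫ y ≫ K.obj.d n m = z ≫ K.obj.d n m := by
  rw [filX_factors_iff] at hx
  obtain ⟨x, hx⟩ := hx
  have hy : x ≫ (K.fil p : CochainComplex A ℤ).d m l = 0 := by
    rw [← cancel_mono ((K.fil p).arrow.f l), Category.assoc, ← HomologicalComplex.Hom.comm,
      reassoc_of% hx]
    simp
  rw [HomologicalComplex.mono_homologyMap_iff_up_to_refinements _ n m l (prev_eq h)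
    (next_eq h')] at h0
  obtain ⟨T', π, hπ, z, e⟩ := h0 x hy y hx
  refine ⟨T', π, hπ, z ≫ (K.fil p).arrow.f n, (filX_factors_iff _ _ _ _).2 ⟨z, rfl⟩, ?_⟩
  rw [← hx, reassoc_of% e, Category.assoc, HomologicalComplex.Hom.comm]

/-- Surjectivity of `H^m(F^p K) → H^m(K)`, elementwise. -/
lemma exists_of_epi {p n m l : ℤ} (h : n + 1 = m) (h' : m + 1 = l)
    (h0 : Epi (HomologicalComplex.homologyMap (K.fil p).arrow m)) {T : A} (x : T ⟶ K.obj.X m)
    (hx : x ≫ K.obj.d m l = 0) :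
    ∃ (T' : A) (π : T' ⟶ T) (_ : Epi π) (c : T' ⟶ K.obj.X m) (z : T' ⟶ K.obj.X n),
      (K.filX p m).Factors c ∧ c ≫ K.obj.d m l = 0 ∧ π ≫ x = c + z ≫ K.obj.d n m := by
  rw [HomologicalComplex.epi_homologyMap_iff_up_to_refinements _ n m l (prev_eq h)
    (next_eq h')] at h0
  obtain ⟨T', π, hπ, c, hc, z, e⟩ := h0 x hx
  refine ⟨T', π, hπ, c ≫ (K.fil p).arrow.f m, z, (filX_factors_iff _ _ _ _).2 ⟨c, rfl⟩, ?_, e⟩
  rw [Category.assoc, HomologicalComplex.Hom.comm, reassoc_of% hc, zero_comp]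

lemma zTop_le_zSub (r : ℕ) (p n : ℤ) : K.ZTop p n ≤ K.ZSub r p n := by
  rw [le_iff]
  intro T x
  rw [zTop_iff K p n _ rfl, zSub_iff K r p n _ _ rfl rfl]
  rintro ⟨T', π, hπ, a, b, ha, ha', hb, e⟩
  exact ⟨T', π, hπ, a, b, ha, by rw [ha']; exact factors_zero _, hb, e⟩

lemma bSub_le_bBot (r : ℕ) (p m : ℤ) : K.BSub r p m ≤ K.BBot p m := by
  rw [le_iff]
  intro T x
  obtain ⟨n, h⟩ : ∃ n, n + 1 = m := ⟨m - 1, by omega⟩
  rw [bBot_iff K p n m h, bSub_iff K r p n m _ h rfl]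
  rintro ⟨T', π, hπ, y, b, hy, hy', hb, e⟩
  exact ⟨T', π, hπ, y, b, hy', hb, e⟩

lemma bBot_le_zTop (p n : ℤ) : K.BBot p n ≤ K.ZTop p n := by
  rw [le_iff]
  intro T x
  obtain ⟨l, h⟩ : ∃ l, l + 1 = n := ⟨n - 1, by omega⟩
  rw [bBot_iff K p l n h, zTop_iff K p n _ rfl]
  rintro ⟨T', π, hπ, y, b, hy, hb, e⟩
  exact ⟨T', π, hπ, y ≫ K.obj.d _ _, b, hy, by simp, hb, e⟩

lemma zSub_anti (r : ℕ) (p n : ℤ) : K.ZSub (r + 1) p n ≤ K.ZSub r p n := by
  rw [le_iff]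
  intro T x
  rw [zSub_iff K r p n _ _ rfl rfl, zSub_iff K (r + 1) p n _ _ rfl rfl]
  rintro ⟨T', π, hπ, a, b, ha, ha', hb, e⟩
  exact ⟨T', π, hπ, a, b, ha, filX_mono K (by push_cast; omega) ha', hb, e⟩

lemma bSub_mono (r : ℕ) (p m : ℤ) : K.BSub r p m ≤ K.BSub (r + 1) p m := by
  rw [le_iff]
  intro T x
  obtain ⟨n, h⟩ : ∃ n, n + 1 = m := ⟨m - 1, by omega⟩
  rw [bSub_iff K r p n m _ h rfl, bSub_iff K (r + 1) p n m _ h rfl]
  rintro ⟨T', π, hπ, y, b, hy, hy', hb, e⟩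
  exact ⟨T', π, hπ, y, b, filX_mono K (by push_cast; omega) hy, hy', hb, e⟩

lemma bSub_le_zSub' (r s : ℕ) (p n : ℤ) : K.BSub r p n ≤ K.ZSub s p n :=
  (bSub_le_bBot K r p n).trans ((bBot_le_zTop K p n).trans (zTop_le_zSub K s p n))

end K988.FilCxEl
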