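import Groth.Agent.SpSeq.K988.SubRef

/-!
# Subquotients of an object of an abelian category
-/

set_option autoImplicit false
set_option linter.style.haveILetI false
set_option linter.unusedSectionVars false
set_option linter.unusedVariables false

universe v u

open CategoryTheory CategoryTheory.Limits

namespace K988.SubQ

open SpSeq K988.SubRef

variable {A : Type u} [Category.{v} A] [Abelian A] {X Y : A}

/-- The projection onto a subquotient. -/
noncomputable def proj (Z B : Subobject X) (h : B ≤ Z) : (Z : A) ⟶ subquot Z B h := cokernel.π _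

instance (Z B : Subobject X) (h : B ≤ Z) : Epi (proj Z B h) := by
  unfold proj subquot; infer_instance

lemma ofLE_proj (Z B : Subobject X) (h : B ≤ Z) : B.ofLE Z h ≫ proj Z B h = 0 :=
  cokernel.condition (B.ofLE Z h)

lemma comp_proj_eq_zero_iff (Z B : Subobject X) (h : B ≤ Z) {T : A} (x : T ⟶ (Z : A)) :
    x ≫ proj Z B h = 0 ↔ B.Factors (x ≫ Z.arrow) := by
  constructor
  · intro hx
    have e : (Abelian.monoIsKernelOfCokernel _ (cokernelIsCokernel (B.ofLE Z h))).lift
        (KernelFork.ofι x hx) ≫ B.ofLE Z h = x :=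
      (Abelian.monoIsKernelOfCokernel _ (cokernelIsCokernel (B.ofLE Z h))).fac
        (KernelFork.ofι x hx) WalkingParallelPair.zero
    rw [← e, Category.assoc, Subobject.ofLE_arrow]
    exact Subobject.factors_comp_arrow _
  · intro hx
    have e : x = Subobject.factorThru B _ hx ≫ B.ofLE Z h := by
      rw [← cancel_mono Z.arrow, Category.assoc, Subobject.ofLE_arrow, Subobject.factorThru_arrow]
    rw [e, Category.assoc, ofLE_proj, comp_zero]

/-- Every map to a subquotient lifts to `Z` up to refinement. -/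
lemma exists_lift (Z B : Subobject X) (h : B ≤ Z) {T : A} (x : T ⟶ subquot Z B h) :
    ∃ (T' : A) (π : T' ⟶ T) (_ : Epi π) (z : T' ⟶ X) (hz : Z.Factors z),
      π ≫ x = Subobject.factorThru Z z hz ≫ proj Z B h := by
  obtain ⟨T', π, hπ, z, e⟩ := surjective_up_to_refinements_of_epi (proj Z B h) x
  refine ⟨T', π, hπ, z ≫ Z.arrow, Subobject.factors_comp_arrow z, ?_⟩
  rw [e]
  congr 1
  rw [← cancel_mono Z.arrow, Subobject.factorThru_arrow]

lemma isZero_subquot_iff (Z B : Subobject X) (h : B ≤ Z) : IsZero (subquot Z B h) ↔ Z ≤ B := by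
  constructor
  · intro h0
    refine Subobject.le_of_factors ?_
    have := (comp_proj_eq_zero_iff Z B h (𝟙 _)).1 (h0.eq_of_tgt _ _)
    rwa [Category.id_comp] at this
  · intro h0
    rw [IsZero.iff_id_eq_zero, ← cancel_epi (proj Z B h), Category.comp_id, comp_zero]
    have := (comp_proj_eq_zero_iff Z B h (𝟙 _)).2 (by
      rw [Category.id_comp]
      exact Subobject.factors_of_le _ h0 (Subobject.factors_self Z))
    rwa [Category.id_comp] at this

lemma isZero_subquot_of_eq (Z B : Subobject X) (h : B ≤ Z) (e : Z = B) : IsZero (subquot Z B h) :=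
  (isZero_subquot_iff Z B h).2 e.le

/-- Criterion for a map to a subquotient to be an epimorphism. -/
lemma epi_of_elements {W : A} (Z B : Subobject X) (h : B ≤ Z) (w : W ⟶ X) (hw : Z.Factors w)
    (H : ∀ (T : A) (z : T ⟶ X), Z.Factors z → ∃ (T' : A) (π : T' ⟶ T) (_ : Epi π) (y : T' ⟶ W)
      (b : T' ⟶ X), B.Factors b ∧ π ≫ z = y ≫ w + b) :
    Epi (Subobject.factorThru Z w hw ≫ proj Z B h) := by
  rw [epi_iff_surjective_up_to_refinements]
  intro T x
  obtain ⟨T', π, hπ, z, hz, e⟩ := exists_lift Z B h x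
  obtain ⟨T'', π', hπ', y, b, hb, e'⟩ := H T' z hz
  refine ⟨T'', π' ≫ π, inferInstance, y, ?_⟩
  rw [Category.assoc, e, ← sub_eq_zero, ← Category.assoc, ← Category.assoc,
    ← Preadditive.sub_comp, comp_proj_eq_zero_iff, Preadditive.sub_comp, Category.assoc,
    Category.assoc, Subobject.factorThru_arrow, Subobject.factorThru_arrow, e',
    add_sub_cancel_left]
  exact hb

lemma comp_factorThru_proj_eq_zero_iff {W : A} (Z B : Subobject X) (h : B ≤ Z) (w : W ⟶ X)
    (hw : Z.Factors w) {T : A} (x : T ⟶ W) :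
    x ≫ Subobject.factorThru Z w hw ≫ proj Z B h = 0 ↔ B.Factors (x ≫ w) := by
  rw [← Category.assoc, comp_proj_eq_zero_iff, Category.assoc, Subobject.factorThru_arrow]

/-- Two subquotients, both of which are quotients of the same object with the same kernel, are
isomorphic. -/
noncomputable def isoOfElements {W : A} (Z B : Subobject X) (h : B ≤ Z) (Z' B' : Subobject Y)
    (h' : B' ≤ Z') (w : W ⟶ X) (hw : Z.Factors w) (w' : W ⟶ Y) (hw' : Z'.Factors w')
    (H : ∀ (T : A) (z : T ⟶ X), Z.Factors z → ∃ (T' : A) (π : T' ⟶ T) (_ : Epi π) (y : T' ⟶ W)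
      (b : T' ⟶ X), B.Factors b ∧ π ≫ z = y ≫ w + b)
    (H' : ∀ (T : A) (z : T ⟶ Y), Z'.Factors z → ∃ (T' : A) (π : T' ⟶ T) (_ : Epi π) (y : T' ⟶ W)
      (b : T' ⟶ Y), B'.Factors b ∧ π ≫ z = y ≫ w' + b)
    (K : ∀ (T : A) (x : T ⟶ W), B.Factors (x ≫ w) ↔ B'.Factors (x ≫ w')) :
    subquot Z B h ≅ subquot Z' B' h' :=
  haveI := epi_of_elements Z B h w hw H
  haveI := epi_of_elements Z' B' h' w' hw' H'
  isoOfEpi (Subobject.factorThru Z w hw ≫ proj Z B h)
    (Subobject.factorThru Z' w' hw' ≫ proj Z' B' h') (fun T x => by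
      rw [comp_factorThru_proj_eq_zero_iff, comp_factorThru_proj_eq_zero_iff]
      exact K T x)

section Three

variable (Z Z' B : Subobject X) (h : B ≤ Z') (h' : Z' ≤ Z)

/-- `Z'/B → Z/B`. -/
noncomputable def incl : subquot Z' B h ⟶ subquot Z B (h.trans h') :=
  cokernel.desc _ (Z'.ofLE Z h' ≫ proj Z B (h.trans h')) (by
    rw [← Category.assoc, Subobject.ofLE_comp_ofLE, comp_proj_eq_zero_iff, Subobject.ofLE_arrow]
    exact Subobject.factors_self B)

/-- `Z/B → Z/Z'`. -/
noncomputable def quo : subquot Z B (h.trans h') ⟶ subquot Z Z' h' :=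
  cokernel.desc _ (proj Z Z' h') (by
    rw [comp_proj_eq_zero_iff, Subobject.ofLE_arrow]
    exact Subobject.factors_of_le _ h (Subobject.factors_self B))

lemma proj_incl : proj Z' B h ≫ incl Z Z' B h h' = Z'.ofLE Z h' ≫ proj Z B (h.trans h') :=
  cokernel.π_desc _ _ _

lemma proj_quo : proj Z B (h.trans h') ≫ quo Z Z' B h h' = proj Z Z' h' :=
  cokernel.π_desc _ _ _

instance : Epi (quo Z Z' B h h') :=
  haveI : Epi (proj Z B (h.trans h') ≫ quo Z Z' B h h') := by rw [proj_quo]; infer_instance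
  epi_of_epi (proj Z B (h.trans h')) _

instance : Mono (incl Z Z' B h h') := by
  refine Preadditive.mono_of_cancel_zero _ fun {T} x hx => ?_
  obtain ⟨T', π, hπ, z, hz, e⟩ := exists_lift Z' B h x
  rw [← cancel_epi π, comp_zero, e, comp_proj_eq_zero_iff, Subobject.factorThru_arrow]
  have : (π ≫ x) ≫ incl Z Z' B h h' = 0 := by rw [Category.assoc, hx, comp_zero]
  rw [e, Category.assoc, proj_incl, ← Category.assoc, comp_proj_eq_zero_iff, Category.assoc,
    Subobject.ofLE_arrow, Subobject.factorThru_arrow] at this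
  exact this

lemma incl_quo : incl Z Z' B h h' ≫ quo Z Z' B h h' = 0 := by
  rw [← cancel_epi (proj Z' B h), ← Category.assoc, proj_incl, Category.assoc, proj_quo, comp_zero,
    comp_proj_eq_zero_iff, Subobject.ofLE_arrow]
  exact Subobject.factors_self Z'

lemma shortExact : (ShortComplex.mk _ _ (incl_quo Z Z' B h h')).ShortExact where
  exact := by
    rw [ShortComplex.exact_iff_exact_up_to_refinements]
    intro T x hx
    change x ≫ quo Z Z' B h h' = 0 at hx
    change T ⟶ subquot Z B (h.trans h') at x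
    obtain ⟨T', π, hπ, z, hz, e⟩ := exists_lift Z B (h.trans h') x
    have h1 : (π ≫ x) ≫ quo Z Z' B h h' = 0 := by rw [Category.assoc, hx, comp_zero]
    rw [e, Category.assoc, proj_quo, comp_proj_eq_zero_iff, Subobject.factorThru_arrow] at h1
    refine ⟨T', π, hπ, Subobject.factorThru Z' z h1 ≫ proj Z' B h, ?_⟩
    change π ≫ x = (Subobject.factorThru Z' z h1 ≫ proj Z' B h) ≫ incl Z Z' B h h'
    rw [e, Category.assoc, proj_incl, ← Category.assoc]
    congr 1
    rw [← cancel_mono Z.arrow, Category.assoc, Subobject.ofLE_arrow, Subobject.factorThru_arrow,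
      Subobject.factorThru_arrow]
  mono_f := inferInstanceAs (Mono (incl Z Z' B h h'))
  epi_g := inferInstanceAs (Epi (quo Z Z' B h h'))

end Three

/-- `⊤ / ⊥` is the object itself. -/
noncomputable def topBotIso (Z B : Subobject X) (h : B ≤ Z) (hZ : Z = ⊤) (hB : B = ⊥) :
    subquot Z B h ≅ X := by
  subst hZ hB
  haveI : Epi (Subobject.factorThru (⊤ : Subobject X) (𝟙 X) (factors_top _) ≫ proj ⊤ ⊥ h) := by
    refine epi_of_elements _ _ _ _ _ fun T z _ => ⟨T, 𝟙 _, inferInstance, z, 0, factors_zero _, by simp⟩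
  exact isoOfEpi (Subobject.factorThru (⊤ : Subobject X) (𝟙 X) (factors_top _) ≫ proj ⊤ ⊥ h)
    (𝟙 X) (fun T x => by
      rw [comp_factorThru_proj_eq_zero_iff, factors_bot_iff])

end K988.SubQ
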