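import Groth.Prelude.Def_SpSeq
import Mathlib.CategoryTheory.Abelian.Refinements

/-!
# Subobjects of an object of an abelian category, up to refinements

`S.Factors x` for `x : T ⟶ X` is read as "`x ∈ S`".
-/

set_option autoImplicit false
set_option linter.style.haveILetI false
set_option linter.unusedSectionVars false

universe v u

open CategoryTheory CategoryTheory.Limits

namespace K988.SubRef

variable {A : Type u} [Category.{v} A] [Abelian A] {X Y : A}

lemma factors_iff_comp_cokernel (S : Subobject X) {T : A} (x : T ⟶ X) :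
    S.Factors x ↔ x ≫ cokernel.π S.arrow = 0 := by
  constructor
  · intro h
    rw [← Subobject.factorThru_arrow S x h, Category.assoc, cokernel.condition, comp_zero]
  · intro h
    have e : (Abelian.monoIsKernelOfCokernel _ (cokernelIsCokernel S.arrow)).lift
        (KernelFork.ofι x h) ≫ S.arrow = x :=
      (Abelian.monoIsKernelOfCokernel _ (cokernelIsCokernel S.arrow)).fac
        (KernelFork.ofι x h) WalkingParallelPair.zero
    rw [← e]
    exact Subobject.factors_comp_arrow _

lemma factors_of_epi (S : Subobject X) {T T' : A} (π : T' ⟶ T) [Epi π] {x : T ⟶ X}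
    (h : S.Factors (π ≫ x)) : S.Factors x := by
  rw [factors_iff_comp_cokernel] at h ⊢
  rw [← cancel_epi π, ← Category.assoc, h, comp_zero]

lemma factors_precomp (S : Subobject X) {T T' : A} (π : T' ⟶ T) {x : T ⟶ X}
    (h : S.Factors x) : S.Factors (π ≫ x) :=
  Subobject.factors_of_factors_right π h

lemma factors_epi_iff (S : Subobject X) {T T' : A} (π : T' ⟶ T) [Epi π] (x : T ⟶ X) :
    S.Factors (π ≫ x) ↔ S.Factors x :=
  ⟨factors_of_epi S π, factors_precomp S π⟩

lemma factors_add (S : Subobject X) {T : A} {x y : T ⟶ X} (hx : S.Factors x) (hy : S.Factors y) :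
    S.Factors (x + y) := Subobject.factors_add x y hx hy

lemma factors_neg (S : Subobject X) {T : A} {x : T ⟶ X} (hx : S.Factors x) : S.Factors (-x) := by
  rw [factors_iff_comp_cokernel] at hx ⊢
  rw [Preadditive.neg_comp, hx, neg_zero]

lemma factors_sub (S : Subobject X) {T : A} {x y : T ⟶ X} (hx : S.Factors x) (hy : S.Factors y) :
    S.Factors (x - y) := by
  rw [sub_eq_add_neg]; exact factors_add S hx (factors_neg S hy)

lemma factors_zero (S : Subobject X) {T : A} : S.Factors (0 : T ⟶ X) := Subobject.factors_zero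

lemma le_iff (S S' : Subobject X) :
    S ≤ S' ↔ ∀ (T : A) (x : T ⟶ X), S.Factors x → S'.Factors x :=
  ⟨fun h _ x hx => Subobject.factors_of_le x h hx,
    fun h => Subobject.le_of_factors (h _ _ (Subobject.factors_self S))⟩

lemma eq_iff (S S' : Subobject X) :
    S = S' ↔ ∀ (T : A) (x : T ⟶ X), S.Factors x ↔ S'.Factors x :=
  ⟨fun h T x => by rw [h], fun h =>
    le_antisymm ((le_iff _ _).2 fun T x => (h T x).1) ((le_iff _ _).2 fun T x => (h T x).2)⟩

lemma factors_image_iff (f : Y ⟶ X) {T : A} (x : T ⟶ X) :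
    (imageSubobject f).Factors x ↔
      ∃ (T' : A) (π : T' ⟶ T) (_ : Epi π) (y : T' ⟶ Y), π ≫ x = y ≫ f := by
  constructor
  · intro h
    obtain ⟨T', π, hπ, y, hy⟩ := surjective_up_to_refinements_of_epi
      (factorThruImageSubobject f) (Subobject.factorThru _ x h)
    refine ⟨T', π, hπ, y, ?_⟩
    rw [← Subobject.factorThru_arrow _ x h, ← Category.assoc, hy, Category.assoc,
      imageSubobject_arrow_comp]
  · rintro ⟨T', π, hπ, y, hy⟩
    refine factors_of_epi _ π ?_
    rw [hy]
    exact imageSubobject_factors_comp_self f y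

lemma factors_image_arrow_iff (S : Subobject Y) (f : Y ⟶ X) {T : A} (x : T ⟶ X) :
    (imageSubobject (S.arrow ≫ f)).Factors x ↔
      ∃ (T' : A) (π : T' ⟶ T) (_ : Epi π) (y : T' ⟶ Y), S.Factors y ∧ π ≫ x = y ≫ f := by
  rw [factors_image_iff]
  constructor
  · rintro ⟨T', π, hπ, y, hy⟩
    exact ⟨T', π, hπ, y ≫ S.arrow, Subobject.factors_comp_arrow y, by rw [hy, Category.assoc]⟩
  · rintro ⟨T', π, hπ, y, h, hy⟩
    exact ⟨T', π, hπ, Subobject.factorThru S y h, by rw [hy, Subobject.factorThru_arrow_assoc]⟩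

lemma sup_eq_image (S S' : Subobject X) :
    S ⊔ S' = imageSubobject (biprod.desc S.arrow S'.arrow) := by
  apply le_antisymm
  · refine sup_le ?_ ?_
    · refine Subobject.le_of_comm (biprod.inl ≫ factorThruImageSubobject _) ?_
      simp
    · refine Subobject.le_of_comm (biprod.inr ≫ factorThruImageSubobject _) ?_
      simp
  · refine imageSubobject_le _ (biprod.desc (Subobject.ofLE _ _ le_sup_left)
      (Subobject.ofLE _ _ le_sup_right)) ?_
    ext <;> simp

lemma factors_sup_iff (S S' : Subobject X) {T : A} (x : T ⟶ X) :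
    (S ⊔ S').Factors x ↔
      ∃ (T' : A) (π : T' ⟶ T) (_ : Epi π) (a b : T' ⟶ X), S.Factors a ∧ S'.Factors b ∧
        π ≫ x = a + b := by
  rw [sup_eq_image, factors_image_iff]
  constructor
  · rintro ⟨T', π, hπ, y, hy⟩
    refine ⟨T', π, hπ, y ≫ biprod.fst ≫ S.arrow, y ≫ biprod.snd ≫ S'.arrow, ?_, ?_, ?_⟩
    · rw [← Category.assoc]; exact Subobject.factors_comp_arrow _
    · rw [← Category.assoc]; exact Subobject.factors_comp_arrow _
    · rw [hy, ← Preadditive.comp_add]
      congr 1
      ext <;> simp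
  · rintro ⟨T', π, hπ, a, b, ha, hb, e⟩
    refine ⟨T', π, hπ, biprod.lift (Subobject.factorThru S a ha) (Subobject.factorThru S' b hb), ?_⟩
    rw [e]
    simp [biprod.lift_desc]

lemma factors_inf_iff (S S' : Subobject X) {T : A} (x : T ⟶ X) :
    (S ⊓ S').Factors x ↔ S.Factors x ∧ S'.Factors x := Subobject.inf_factors x

lemma factors_pullback_iff (f : Y ⟶ X) (S : Subobject X) {T : A} (x : T ⟶ Y) :
    ((Subobject.pullback f).obj S).Factors x ↔ S.Factors (x ≫ f) :=
  pullback_factors_iff f S x

lemma factors_kernel_iff (f : X ⟶ Y) {T : A} (x : T ⟶ X) :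
    (kernelSubobject f).Factors x ↔ x ≫ f = 0 := kernelSubobject_factors_iff f x

lemma factors_bot_iff {T : A} (x : T ⟶ X) : (⊥ : Subobject X).Factors x ↔ x = 0 :=
  Subobject.bot_factors_iff_zero x

lemma factors_top {T : A} (x : T ⟶ X) : (⊤ : Subobject X).Factors x := Subobject.top_factors x

/-- Two epimorphisms out of the same object with the same kernel have isomorphic targets. -/
noncomputable def isoOfEpi {W U V : A} (α : W ⟶ U) (β : W ⟶ V) [Epi α] [Epi β]
    (h : ∀ (T : A) (x : T ⟶ W), x ≫ α = 0 ↔ x ≫ β = 0) : U ≅ V where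
  hom := (Abelian.epiIsCokernelOfKernel _ (kernelIsKernel α)).desc
    (CokernelCofork.ofπ β (((h _ (kernel.ι α)).1 (kernel.condition α))))
  inv := (Abelian.epiIsCokernelOfKernel _ (kernelIsKernel β)).desc
    (CokernelCofork.ofπ α (((h _ (kernel.ι β)).2 (kernel.condition β))))
  hom_inv_id := by
    rw [← cancel_epi α]
    have e1 : α ≫ (Abelian.epiIsCokernelOfKernel _ (kernelIsKernel α)).desc
        (CokernelCofork.ofπ β (((h _ (kernel.ι α)).1 (kernel.condition α)))) = β :=
      (Abelian.epiIsCokernelOfKernel _ (kernelIsKernel α)).fac _ WalkingParallelPair.one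
    have e2 : β ≫ (Abelian.epiIsCokernelOfKernel _ (kernelIsKernel β)).desc
        (CokernelCofork.ofπ α (((h _ (kernel.ι β)).2 (kernel.condition β)))) = α :=
      (Abelian.epiIsCokernelOfKernel _ (kernelIsKernel β)).fac _ WalkingParallelPair.one
    erw [← Category.assoc, e1, e2, Category.comp_id]
  inv_hom_id := by
    rw [← cancel_epi β]
    have e1 : α ≫ (Abelian.epiIsCokernelOfKernel _ (kernelIsKernel α)).desc
        (CokernelCofork.ofπ β (((h _ (kernel.ι α)).1 (kernel.condition α)))) = β :=
      (Abelian.epiIsCokernelOfKernel _ (kernelIsKernel α)).fac _ WalkingParallelPair.one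
    have e2 : β ≫ (Abelian.epiIsCokernelOfKernel _ (kernelIsKernel β)).desc
        (CokernelCofork.ofπ α (((h _ (kernel.ι β)).2 (kernel.condition β)))) = α :=
      (Abelian.epiIsCokernelOfKernel _ (kernelIsKernel β)).fac _ WalkingParallelPair.one
    erw [← Category.assoc, e2, e1, Category.comp_id]

end K988.SubRef
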