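import Groth.Agent.SpSeq.K988.Abs
import Groth.Agent.SpSeq.K988.Serre
import Groth.Agent.SpSeq.K988.TrBound
import Groth.Agent.Fixpt.H903.TrLin
import Mathlib.Algebra.Category.ModuleCat.Abelian
import Mathlib.Algebra.Category.ModuleCat.ChangeOfRings
import Mathlib.Algebra.Homology.ShortComplex.ModuleCat
import Mathlib.LinearAlgebra.FiniteDimensional.Lemmas

/-!
# Traces for finite-dimensional modules over `ℂ[X]`
-/

set_option autoImplicit false
set_option linter.style.haveILetI false
set_option linter.unusedSectionVars false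
set_option linter.unusedVariables false

universe u

open CategoryTheory CategoryTheory.Limits Module

namespace K988.Tr

open SpSeq K988.SubRef K988.SubQ K988.Abs

/-- The underlying complex vector space. -/
noncomputable abbrev rs (M : ModuleCat.{u} (Polynomial ℂ)) : ModuleCat.{u} ℂ :=
  (ModuleCat.restrictScalars (algebraMap ℂ (Polynomial ℂ))).obj M

/-- Multiplication by `X`. -/
noncomputable abbrev Phi (M : ModuleCat.{u} (Polynomial ℂ)) : rs M →ₗ[ℂ] rs M :=
  ((ModuleCat.restrictScalars (algebraMap ℂ (Polynomial ℂ))).map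
    ((Polynomial.X : Polynomial ℂ) • 𝟙 M)).hom

noncomputable abbrev rsMap {M N : ModuleCat.{u} (Polynomial ℂ)} (f : M ⟶ N) : rs M →ₗ[ℂ] rs N :=
  ((ModuleCat.restrictScalars (algebraMap ℂ (Polynomial ℂ))).map f).hom

/-- The trace of multiplication by `X`. -/
noncomputable abbrev tr (M : ModuleCat.{u} (Polynomial ℂ)) : ℂ := LinearMap.trace ℂ (rs M) (Phi M)

lemma rsMap_Phi {M N : ModuleCat.{u} (Polynomial ℂ)} (f : M ⟶ N) (x : rs M) :
    rsMap f (Phi M x) = Phi N (rsMap f x) := by
  change f.hom ((Polynomial.X : Polynomial ℂ) • (x : M)) = (Polynomial.X : Polynomial ℂ) • f.hom (x : M)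
  exact map_smul f.hom _ _

lemma rsMap_injective {M N : ModuleCat.{u} (Polynomial ℂ)} (f : M ⟶ N) [Mono f] :
    Function.Injective (rsMap f) := (ModuleCat.mono_iff_injective f).1 inferInstance

lemma rsMap_surjective {M N : ModuleCat.{u} (Polynomial ℂ)} (f : M ⟶ N) [Epi f] :
    Function.Surjective (rsMap f) := (ModuleCat.epi_iff_surjective f).1 inferInstance

lemma finite_of_mono {M N : ModuleCat.{u} (Polynomial ℂ)} (f : M ⟶ N) [Mono f]
    (h : Module.Finite ℂ (rs N)) : Module.Finite ℂ (rs M) :=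
  Module.Finite.of_injective (rsMap f) (rsMap_injective f)

lemma finite_of_epi {M N : ModuleCat.{u} (Polynomial ℂ)} (f : M ⟶ N) [Epi f]
    (h : Module.Finite ℂ (rs M)) : Module.Finite ℂ (rs N) :=
  Module.Finite.of_surjective (rsMap f) (rsMap_surjective f)

lemma finrank_of_mono {M N : ModuleCat.{u} (Polynomial ℂ)} (f : M ⟶ N) [Mono f]
    (h : Module.Finite ℂ (rs N)) : finrank ℂ (rs M) ≤ finrank ℂ (rs N) :=
  LinearMap.finrank_le_finrank_of_injective (rsMap_injective f)

lemma finrank_of_epi {M N : ModuleCat.{u} (Polynomial ℂ)} (f : M ⟶ N) [Epi f]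
    (h : Module.Finite ℂ (rs M)) : finrank ℂ (rs N) ≤ finrank ℂ (rs M) :=
  LinearMap.finrank_le_finrank_of_surjective (rsMap_surjective f)

lemma eig_of_mono {M N : ModuleCat.{u} (Polynomial ℂ)} (f : M ⟶ N) [Mono f] {μ : ℂ}
    (h : Module.End.HasEigenvalue (Phi M) μ) : Module.End.HasEigenvalue (Phi N) μ := by
  obtain ⟨x, hx⟩ := h.exists_hasEigenvector
  refine Module.End.hasEigenvalue_of_hasEigenvector (x := rsMap f x) ⟨?_, ?_⟩
  · rw [Module.End.mem_eigenspace_iff, ← rsMap_Phi, hx.apply_eq_smul, map_smul]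
  · intro h0
    exact hx.2 (rsMap_injective f (by rw [h0, map_zero]))

lemma eig_of_epi {M N : ModuleCat.{u} (Polynomial ℂ)} (f : M ⟶ N) [Epi f]
    (hfin : Module.Finite ℂ (rs M)) {μ : ℂ}
    (h : Module.End.HasEigenvalue (Phi N) μ) : Module.End.HasEigenvalue (Phi M) μ := by
  haveI := finite_of_epi f hfin
  by_contra hcon
  -- `Φ_M - μ` is injective, hence surjective
  have h1 : Function.Injective (Phi M - μ • (1 : Module.End ℂ (rs M))) := by
    rw [← LinearMap.ker_eq_bot, ← Module.End.eigenspace_def]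
    by_contra h2
    exact hcon (Module.End.hasEigenvalue_iff.2 h2)
  have h2 : Function.Surjective (Phi M - μ • (1 : Module.End ℂ (rs M))) :=
    LinearMap.injective_iff_surjective.1 h1
  have h3 : Function.Surjective (Phi N - μ • (1 : Module.End ℂ (rs N))) := by
    intro y
    obtain ⟨x, rfl⟩ := rsMap_surjective f y
    obtain ⟨z, rfl⟩ := h2 x
    refine ⟨rsMap f z, ?_⟩
    rw [LinearMap.sub_apply, LinearMap.sub_apply, map_sub, ← rsMap_Phi]
    congr 1
    rw [LinearMap.smul_apply, LinearMap.smul_apply, Module.End.one_apply, Module.End.one_apply,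
      map_smul]
  have h4 : Function.Injective (Phi N - μ • (1 : Module.End ℂ (rs N))) :=
    LinearMap.injective_iff_surjective.2 h3
  refine Module.End.hasEigenvalue_iff.1 h ?_
  rw [Module.End.eigenspace_def]
  exact LinearMap.ker_eq_bot.2 h4

lemma tr_add {S : ShortComplex (ModuleCat.{u} (Polynomial ℂ))} (hS : S.ShortExact)
    (h : Module.Finite ℂ (rs S.X₂)) : tr S.X₂ = tr S.X₁ + tr S.X₃ := by
  haveI := hS.mono_f
  haveI := hS.epi_g
  refine Groth.Agent.Fixpt.H903.TrLin.trace_of_exact (rsMap S.f) (rsMap S.g)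
    (rsMap_injective S.f) (rsMap_surjective S.g) ?_ _ _ _ (fun x => (rsMap_Phi S.f x).symm)
    (fun x => rsMap_Phi S.g x)
  exact (ShortComplex.ShortExact.moduleCat_exact_iff_function_exact S).1 hS.exact

lemma finite_ext {S : ShortComplex (ModuleCat.{u} (Polynomial ℂ))} (hS : S.ShortExact)
    (h₁ : Module.Finite ℂ (rs S.X₁)) (h₃ : Module.Finite ℂ (rs S.X₃)) :
    Module.Finite ℂ (rs S.X₂) := by
  haveI := hS.mono_f
  haveI := hS.epi_g
  exact Module.Finite.of_exact (f := rsMap S.f) (g := rsMap S.g)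
    ((ShortComplex.ShortExact.moduleCat_exact_iff_function_exact S).1 hS.exact)
    (rsMap_surjective S.g)

lemma tr_zero {M : ModuleCat.{u} (Polynomial ℂ)} (h : IsZero M) : tr M = 0 := by
  haveI : Subsingleton M := ModuleCat.subsingleton_of_isZero h
  haveI : Subsingleton (rs M) := this
  have : Phi M = 0 := Subsingleton.elim _ _
  unfold tr
  rw [this, map_zero]

lemma finite_zero {M : ModuleCat.{u} (Polynomial ℂ)} (h : IsZero M) : Module.Finite ℂ (rs M) := by
  haveI : Subsingleton M := ModuleCat.subsingleton_of_isZero h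
  haveI : Subsingleton (rs M) := this
  infer_instance

lemma tr_iso {M N : ModuleCat.{u} (Polynomial ℂ)} (e : M ≅ N) : tr M = tr N := by
  have h := LinearMap.trace_conj' (Phi M)
    ((ModuleCat.restrictScalars (algebraMap ℂ (Polynomial ℂ))).mapIso e).toLinearEquiv
  unfold tr
  rw [← h]
  congr 1
  ext x
  rw [LinearEquiv.conj_apply_apply]
  change rsMap e.hom (Phi M (rsMap e.inv x)) = _
  rw [rsMap_Phi]
  congr 1
  change (e.inv ≫ e.hom).hom x = x
  rw [e.inv_hom_id]; rfl

end K988.Tr
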